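import Cfsg.Agent.Lib.Helper9.Monomial
import Cfsg.Agent.Lib.Helper9.M24Trans
import Cfsg.Agent.Lib.Helper33.CoMat

set_option autoImplicit false

/-!
The centre of the automorphism group of the Leech lattice.
-/

namespace Cfsg.Agent.Lib.Helper9

open Cfsg Cfsg.Agent.Lib.Helper10
open scoped Pointwise

theorem m24_trans_pt (i j : GolayPt) : ∃ π ∈ M24, π i = j := by
  have h5 : MulAction.IsMultiplyPretransitive M24 GolayPt 5 := m24_five_transitive
  have h1 : MulAction.IsMultiplyPretransitive M24 GolayPt 1 :=
    MulAction.isMultiplyPretransitive_of_le (n := 5) (by norm_num) (by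
      rw [natCard_golayPt]; norm_num)
  have : MulAction.IsPretransitive M24 GolayPt := MulAction.is_one_pretransitive_iff.1 h1
  obtain ⟨g, hg⟩ := MulAction.exists_smul_eq M24 i j
  exact ⟨g.1, g.2, hg⟩

theorem single_mem (i : GolayPt) (a : ℤ) : Pi.single i (8 * a) ∈ leechLattice := by
  rw [mem_leechLattice_iff_mem_leechSet, mem_leechSet_iff']
  refine ⟨0, Pi.single i (4 * a), Or.inl rfl, fun j => ?_, ?_, ?_⟩
  · by_cases h : j = i
    · subst h; simp only [Pi.single_eq_same]; ring
    · simp only [Pi.single_eq_of_ne h]; ring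
  · rw [Finset.sum_pi_single']
    simp
  · have : red2 (Pi.single i (4 * a)) = 0 := by
      funext j
      by_cases h : j = i
      · subst h
        simp only [red2, Pi.single_eq_same, Pi.zero_apply]
        push_cast
        have : (4 : ZMod 2) = 0 := by decide
        rw [this, zero_mul]
      · simp [red2, Pi.single_eq_of_ne h]
    rw [this]; exact golayCode.zero_mem

/-- the vector `8 e_i` -/
def uv (i : GolayPt) : ↥leechLattice := ⟨Pi.single i (8 * 1), single_mem i 1⟩

theorem uv_val (i : GolayPt) : ((uv i : ↥leechLattice) : GolayPt → ℤ) = Pi.single i 8 := rfl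

theorem sep_aux : ∀ i j : GolayPt, i ≠ j →
    ∃ b ∈ gB, b.testBit (enc i) ≠ b.testBit (enc j) := by decide +kernel

theorem univ_mem_supports : (Finset.univ : Finset GolayPt) ∈
    supports (golayCode : Set (GolayPt → ZMod 2)) := by
  rw [mem_supports_iff]
  have : ind (Finset.univ : Finset GolayPt) = 1 := by funext i; simp [ind]
  rw [this]; exact one_mem_golay

theorem empty_mem_supports' : (∅ : Finset GolayPt) ∈
    supports (golayCode : Set (GolayPt → ZMod 2)) := by
  rw [mem_supports_iff]
  have : ind (∅ : Finset GolayPt) = 0 := by funext i; simp [ind]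
  rw [this]; exact golayCode.zero_mem

theorem mem_support₂ (w : GolayPt → ZMod 2) (i : GolayPt) : i ∈ support₂ w ↔ w i ≠ 0 := by
  simp [support₂]

/-- code words separate points -/
theorem exists_sep (i j : GolayPt) (h : i ≠ j) :
    ∃ c ∈ supports (golayCode : Set (GolayPt → ZMod 2)), j ∈ c ∧ i ∉ c := by
  obtain ⟨b, hb, hne⟩ := sep_aux i j h
  have hw := wordOf_gB_mem b hb
  by_cases hj : b.testBit (enc j) = true
  · refine ⟨ofMask b, ⟨wordOf b, hw, support₂_wordOf b⟩, (mem_ofMask _ _).2 hj, ?_⟩
    rw [mem_ofMask]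
    intro hi
    exact hne (hi.trans hj.symm)
  · have hi : b.testBit (enc i) = true := by
      cases h1 : b.testBit (enc i)
      · cases h2 : b.testBit (enc j)
        · rw [h1, h2] at hne; exact absurd rfl hne
        · exact absurd h2 hj
      · rfl
    refine ⟨support₂ (wordOf b + 1), ⟨_, golayCode.add_mem hw one_mem_golay, rfl⟩, ?_, ?_⟩
    · rw [mem_support₂, Pi.add_apply, Pi.one_apply, wordOf, if_neg hj]; decide
    · rw [mem_support₂, Pi.add_apply, Pi.one_apply, wordOf, if_pos hi]; decide

/-- negation -/
noncomputable def negEl : ↥Co0 := monoEl 1 M24.one_mem Finset.univ univ_mem_supports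

theorem negEl_apply (v : ↥leechLattice) : negEl • v = -v := by
  apply Subtype.ext
  funext i
  show signedPerm 1 Finset.univ v.1 i = -(v.1 i)
  unfold signedPerm
  rw [if_pos (Finset.mem_univ i)]; rfl

theorem co0_ext {g h : ↥Co0} (H : ∀ v : ↥leechLattice, g • v = h • v) : g = h :=
  Subtype.ext (Equiv.ext H)

theorem negEl_ne_one : negEl ≠ 1 := by
  intro h
  have := negEl_apply (uv none)
  rw [h, one_smul] at this
  have h2 := congrFun (congrArg Subtype.val this) none
  have h3 : ((-(uv none) : ↥leechLattice) : GolayPt → ℤ) none = -8 := by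
    show -((Pi.single (none : GolayPt) (8 * 1 : ℤ) : GolayPt → ℤ) none) = -8
    simp
  rw [h3, uv_val, Pi.single_eq_same] at h2
  omega

theorem negEl_comm (h : ↥Co0) : h * negEl = negEl * h := by
  apply co0_ext
  intro v
  rw [mul_smul, mul_smul, negEl_apply, negEl_apply, Helper33.co0_smul_neg]

theorem dot_single (x : GolayPt → ℤ) (i : GolayPt) (a : ℤ) : dotInt x (Pi.single i a) = x i * a := by
  unfold dotInt
  rw [Finset.sum_eq_single i]
  · rw [Pi.single_eq_same]
  · intro j _ hj; rw [Pi.single_eq_of_ne hj, mul_zero]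
  · intro h; exact absurd (Finset.mem_univ i) h

theorem center_cases (g : ↥Co0) (hg : g ∈ Subgroup.center ↥Co0) : g = 1 ∨ g = negEl := by
  have hcomm : ∀ h : ↥Co0, ∀ v : ↥leechLattice, g • (h • v) = h • (g • v) := by
    intro h v
    rw [← mul_smul, ← mul_smul, (Subgroup.mem_center_iff.1 hg h)]
  -- step 1: the image of `8 e_i` is supported at `i`
  have h1 : ∀ i j : GolayPt, i ≠ j → ((g • uv i : ↥leechLattice) : GolayPt → ℤ) j = 0 := by
    intro i j hij
    obtain ⟨c, hc, hj, hi⟩ := exists_sep i j hij
    have hfix : monoEl 1 M24.one_mem c hc • uv i = uv i := by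
      apply Subtype.ext
      funext k
      show signedPerm 1 c (Pi.single i (8 * 1)) k = (Pi.single i (8 * 1) : GolayPt → ℤ) k
      unfold signedPerm
      by_cases hk : k ∈ c
      · have hki : k ≠ i := fun h => hi (h ▸ hk)
        rw [if_pos hk]
        show -((Pi.single i (8 * 1 : ℤ) : GolayPt → ℤ) k) = _
        rw [Pi.single_eq_of_ne hki]; rfl
      · rw [if_neg hk]; rfl
    have h2 := hcomm (monoEl 1 M24.one_mem c hc) (uv i)
    rw [hfix] at h2
    have h3 := congrFun (congrArg Subtype.val h2) j
    rw [monoEl_apply] at h3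
    unfold signedPerm at h3
    rw [if_pos hj] at h3
    have h4 : (1 : Equiv.Perm GolayPt).symm j = j := rfl
    rw [h4] at h3
    omega
  have h2 : ∀ i, ((g • uv i : ↥leechLattice) : GolayPt → ℤ) i = 8 ∨
      ((g • uv i : ↥leechLattice) : GolayPt → ℤ) i = -8 := by
    intro i
    have hn := Helper33.co0_sqNorm g (uv i)
    have e1 : sqNorm ((g • uv i : ↥leechLattice) : GolayPt → ℤ) =
        (((g • uv i : ↥leechLattice) : GolayPt → ℤ) i) ^ 2 := by
      unfold sqNorm
      rw [Finset.sum_eq_single i]
      · intro j _ hj; rw [h1 i j (Ne.symm hj)]; norm_num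
      · intro h; exact absurd (Finset.mem_univ i) h
    have e2 : sqNorm ((uv i : ↥leechLattice) : GolayPt → ℤ) = 64 := by
      unfold sqNorm
      rw [Finset.sum_eq_single i]
      · rw [uv_val, Pi.single_eq_same]; norm_num
      · intro j _ hj; rw [uv_val, Pi.single_eq_of_ne hj]; norm_num
      · intro h; exact absurd (Finset.mem_univ i) h
    rw [e1, e2] at hn
    have : (((g • uv i : ↥leechLattice) : GolayPt → ℤ) i - 8) *
        (((g • uv i : ↥leechLattice) : GolayPt → ℤ) i + 8) = 0 := by linarith [hn]
    rcases mul_eq_zero.1 this with h | h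
    · left; omega
    · right; omega
  have h3 : ∀ i, ((g • uv i : ↥leechLattice) : GolayPt → ℤ) =
      Pi.single i (((g • uv i : ↥leechLattice) : GolayPt → ℤ) i) := by
    intro i
    funext j
    by_cases h : j = i
    · subst h; rw [Pi.single_eq_same]
    · rw [Pi.single_eq_of_ne h, h1 i j (Ne.symm h)]
  -- step 2: `g` is diagonal
  have h4 : ∀ (v : ↥leechLattice) (i : GolayPt),
      ((g • v : ↥leechLattice) : GolayPt → ℤ) i * ((g • uv i : ↥leechLattice) : GolayPt → ℤ) i =
        (v : GolayPt → ℤ) i * 8 := by
    intro v i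
    have := Helper33.co0_dot g v (uv i)
    rw [h3 i, dot_single, uv_val, dot_single] at this
    exact this
  -- step 3: the signs agree
  have h5 : ∀ i j, ((g • uv i : ↥leechLattice) : GolayPt → ℤ) i =
      ((g • uv j : ↥leechLattice) : GolayPt → ℤ) j := by
    intro i j
    obtain ⟨π, hπ, hij⟩ := m24_trans_pt i j
    have hmove : monoEl π hπ ∅ empty_mem_supports' • uv i = uv j := by
      apply Subtype.ext
      funext k
      show signedPerm π ∅ (Pi.single i (8 * 1)) k = (Pi.single j (8 * 1) : GolayPt → ℤ) k
      unfold signedPerm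
      rw [if_neg (Finset.notMem_empty k)]
      by_cases hk : k = j
      · subst hk
        rw [← hij, Equiv.symm_apply_apply, Pi.single_eq_same, Pi.single_eq_same]
      · rw [Pi.single_eq_of_ne hk, Pi.single_eq_of_ne]
        intro h
        apply hk
        rw [← hij, ← h, Equiv.apply_symm_apply]
    have h6 := hcomm (monoEl π hπ ∅ empty_mem_supports') (uv i)
    rw [hmove] at h6
    have h7 := congrFun (congrArg Subtype.val h6) j
    rw [monoEl_apply] at h7
    unfold signedPerm at h7
    rw [if_neg (Finset.notMem_empty j), ← hij, Equiv.symm_apply_apply] at h7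
    rw [← hij]
    exact h7.symm
  rcases h2 none with h | h
  · left
    apply co0_ext
    intro v
    apply Subtype.ext
    funext i
    have := h4 v i
    rw [h5 i none, h] at this
    rw [one_smul]
    omega
  · right
    apply co0_ext
    intro v
    apply Subtype.ext
    funext i
    have := h4 v i
    rw [h5 i none, h] at this
    rw [negEl_apply]
    show _ = -((v : GolayPt → ℤ) i)
    omega

theorem card_center_Co0 : Nat.card (Subgroup.center ↥Co0) = 2 := by
  rw [Nat.card_eq_two_iff]
  refine ⟨1, ⟨negEl, Subgroup.mem_center_iff.2 negEl_comm⟩, ?_, ?_⟩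
  · intro h
    exact negEl_ne_one (congrArg Subtype.val h).symm
  · ext x
    simp only [Set.mem_insert_iff, Set.mem_singleton_iff, Set.mem_univ, iff_true]
    rcases center_cases x.1 x.2 with h | h
    · left; exact Subtype.ext h
    · right; exact Subtype.ext h

end Cfsg.Agent.Lib.Helper9
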