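import Cfsg.Agent.Lib.Helper9.Leech

set_option autoImplicit false

namespace Cfsg.Agent.Lib.Helper9

open Cfsg Cfsg.Agent.Lib.Helper10

theorem card_golayPt : Fintype.card GolayPt = 24 := by
  simp [GolayPt, Fintype.card_option, ZMod.card]

theorem sum_sq_mod4 (z : GolayPt → ℤ) :
    (4 : ℤ) ∣ ∑ i, z i ^ 2 - ((support₂ (red2 z)).card : ℤ) := by
  rw [support₂, Finset.card_filter]
  push_cast
  rw [← Finset.sum_sub_distrib]
  apply Finset.dvd_sum
  intro i _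
  by_cases h : z i % 2 = 1
  · rw [if_pos ((red2_ne_zero_iff z i).2 h)]
    obtain ⟨q, hq⟩ : ∃ q, z i = 2 * q + 1 := ⟨z i / 2, by omega⟩
    rw [hq]
    exact ⟨q ^ 2 + q, by ring⟩
  · rw [if_neg (fun h' => h ((red2_ne_zero_iff z i).1 h'))]
    obtain ⟨q, hq⟩ : ∃ q, z i = 2 * q := ⟨z i / 2, by omega⟩
    rw [hq]
    exact ⟨q ^ 2, by ring⟩

/-- Normal form of the members of `leechSet`: parity `e ∈ {0,1}`. -/
theorem mem_leechSet_iff' (x : GolayPt → ℤ) : x ∈ leechSet ↔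
    ∃ (e : ℤ) (z : GolayPt → ℤ), (e = 0 ∨ e = 1) ∧ (∀ i, x i = e + 2 * z i) ∧
      (∑ i, z i) % 4 = 2 * e ∧ red2 z ∈ golayCode := by
  have hsum : ∀ (e : ℤ) (z : GolayPt → ℤ), ∑ i, (e + 2 * z i) = 24 * e + 2 * ∑ i, z i := by
    intro e z
    rw [Finset.sum_add_distrib, Finset.sum_const, Finset.card_univ, card_golayPt,
      ← Finset.mul_sum]
    simp
  rw [mem_leechSet_iff]
  constructor
  · rintro ⟨m, z, h1, h2, h3⟩
    have hx : ∑ i, x i = 24 * m + 2 * ∑ i, z i := by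
      rw [← hsum]; exact Finset.sum_congr rfl (fun i _ => h1 i)
    refine ⟨m % 2, fun i => z i + m / 2, by omega, fun i => ?_, ?_, ?_⟩
    · rw [h1 i]; show m + 2 * z i = m % 2 + 2 * (z i + m / 2); omega
    · rw [Finset.sum_add_distrib, Finset.sum_const, Finset.card_univ, card_golayPt]
      rw [hx] at h2
      unfold Int.ModEq at h2
      simp only [nsmul_eq_mul, Nat.cast_ofNat]
      omega
    · have : (red2 fun i => z i + m / 2) = red2 z + ((m / 2 : ℤ) : ZMod 2) • (1 : GolayPt → ZMod 2) := by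
        funext i; simp [red2]
      rw [this]
      exact golayCode.add_mem h3 (golayCode.smul_mem _ one_mem_golay)
  · rintro ⟨e, z, he, h1, h2, h3⟩
    have hx : ∑ i, x i = 24 * e + 2 * ∑ i, z i := by
      rw [← hsum]; exact Finset.sum_congr rfl (fun i _ => h1 i)
    refine ⟨e, z, h1, ?_, h3⟩
    rw [hx]
    unfold Int.ModEq
    omega

theorem sqNorm_expand (e : ℤ) (z x : GolayPt → ℤ) (h1 : ∀ i, x i = e + 2 * z i) :
    sqNorm x = 24 * e ^ 2 + 4 * e * ∑ i, z i + 4 * ∑ i, z i ^ 2 := by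
  unfold sqNorm
  have : ∀ i, x i ^ 2 = e ^ 2 + 4 * e * z i + 4 * z i ^ 2 := by
    intro i; rw [h1 i]; ring
  simp only [this]
  rw [Finset.sum_add_distrib, Finset.sum_add_distrib, Finset.sum_const, Finset.card_univ,
    card_golayPt, ← Finset.mul_sum, ← Finset.mul_sum]
  simp

theorem leech_even {x : GolayPt → ℤ} (hx : x ∈ leechLattice) : (16 : ℤ) ∣ sqNorm x := by
  rw [mem_leechLattice_iff_mem_leechSet, mem_leechSet_iff'] at hx
  obtain ⟨e, z, he, h1, h2, h3⟩ := hx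
  rw [sqNorm_expand e z x h1]
  have h4 := sum_sq_mod4 z
  have h5 : (4 : ℤ) ∣ ((support₂ (red2 z)).card : ℤ) := by
    exact_mod_cast golay_doubly_even_word _ h3
  have h6 : (4 : ℤ) ∣ ∑ i, z i ^ 2 := by
    have := dvd_add h4 h5
    rwa [sub_add_cancel] at this
  obtain ⟨b, hb⟩ := h6
  obtain ⟨a, ha⟩ : ∃ a, ∑ i, z i = 2 * e + 4 * a := ⟨(∑ i, z i) / 4, by omega⟩
  rw [hb, ha]
  exact ⟨2 * e ^ 2 + e * a + b, by ring⟩

end Cfsg.Agent.Lib.Helper9
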