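import Cfsg.Agent.Lib.Helper9.Leech2
import Cfsg.Agent.Lib.Helper9.M24Mem
import Cfsg.Prelude.Def_SporadicCombinatorics

set_option autoImplicit false

/-!
The monomial group `2^12 : M24` inside the automorphism group of the Leech lattice.
-/

namespace Cfsg.Agent.Lib.Helper9

open Cfsg Cfsg.Agent.Lib.Helper10
open scoped Pointwise

theorem zmod2_neg (a : ZMod 2) : -a = a := by revert a; decide

theorem signedPerm_mem {σ : Equiv.Perm GolayPt} (hσ : σ ∈ M24) {c : Finset GolayPt}
    (hc : c ∈ supports (golayCode : Set (GolayPt → ZMod 2))) {x : GolayPt → ℤ}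
    (hx : x ∈ leechLattice) : signedPerm σ c x ∈ leechLattice := by
  rw [mem_leechLattice_iff_mem_leechSet, mem_leechSet_iff'] at hx ⊢
  obtain ⟨e, z, he, h1, h2, h3⟩ := hx
  have hc' : ind c ∈ golayCode := mem_supports_iff.1 hc
  set y : GolayPt → ℤ := fun i => z (σ.symm i) with hy
  have hyc : red2 y ∈ golayCode := by
    have := (mem_M24_iff σ⁻¹).1 (M24.inv_mem hσ) _ h3
    exact this
  have hsum : ∑ i, y i = ∑ i, z i := Equiv.sum_comp σ.symm z
  have hpar : (2 : ℤ) ∣ ∑ i ∈ c, y i := by
    apply (ZMod.intCast_zmod_eq_zero_iff_dvd _ 2).1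
    have := golay_orth _ hyc _ hc'
    rw [← this]
    push_cast
    rw [← Finset.sum_filter_add_sum_filter_not Finset.univ (fun i => i ∈ c)]
    have e1 : ∑ i ∈ Finset.univ.filter (fun i => ¬ i ∈ c), red2 y i * ind c i = 0 := by
      apply Finset.sum_eq_zero
      intro i hi
      rw [ind, if_neg (Finset.mem_filter.1 hi).2, mul_zero]
    rw [e1, add_zero, Finset.filter_mem_eq_inter, Finset.univ_inter]
    apply Finset.sum_congr rfl
    intro i hi
    rw [ind, if_pos hi, mul_one]; rfl
  refine ⟨e, fun i => if i ∈ c then -y i - e else y i, he, fun i => ?_, ?_, ?_⟩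
  · show (if i ∈ c then -x (σ.symm i) else x (σ.symm i)) =
      e + 2 * (if i ∈ c then -y i - e else y i)
    by_cases h : i ∈ c
    · rw [if_pos h, if_pos h, h1]; ring
    · rw [if_neg h, if_neg h, h1]
  · have e1 : ∑ i, (if i ∈ c then -y i - e else y i) =
        ∑ i, y i - (2 * ∑ i ∈ c, y i + c.card * e) := by
      have : ∀ i, (if i ∈ c then -y i - e else y i) = y i - (if i ∈ c then 2 * y i + e else 0) := by
        intro i; by_cases h : i ∈ c
        · rw [if_pos h, if_pos h]; ring
        · rw [if_neg h, if_neg h]; ring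
      rw [Finset.sum_congr rfl (fun i _ => this i), Finset.sum_sub_distrib, Finset.sum_ite_mem,
        Finset.univ_inter, Finset.sum_add_distrib, Finset.mul_sum, Finset.sum_const, nsmul_eq_mul]
    obtain ⟨q, hq⟩ := hpar
    obtain ⟨r, hr⟩ := golay_doubly_even hc
    rw [e1, hsum, hq, hr]
    push_cast
    have : (2 * (2 * q) + 4 * (r : ℤ) * e) = 4 * (q + r * e) := by ring
    rw [this]
    omega
  · have : (red2 fun i => if i ∈ c then -y i - e else y i) =
        red2 y + (e : ZMod 2) • ind c := by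
      funext i
      simp only [red2, Pi.add_apply, Pi.smul_apply, smul_eq_mul, ind]
      by_cases h : i ∈ c
      · rw [if_pos h, if_pos h]
        push_cast
        rw [sub_eq_add_neg, zmod2_neg, zmod2_neg, mul_one]
      · rw [if_neg h, if_neg h, mul_zero, add_zero]
    rw [this]
    exact golayCode.add_mem hyc (golayCode.smul_mem _ hc')

theorem signedPerm_add (σ : Equiv.Perm GolayPt) (c : Finset GolayPt) (x y : GolayPt → ℤ) :
    signedPerm σ c (x + y) = signedPerm σ c x + signedPerm σ c y := by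
  funext i
  simp only [signedPerm, Pi.add_apply]
  by_cases h : i ∈ c
  · rw [if_pos h, if_pos h, if_pos h]; ring
  · rw [if_neg h, if_neg h, if_neg h]

theorem sqNorm_signedPerm (σ : Equiv.Perm GolayPt) (c : Finset GolayPt) (x : GolayPt → ℤ) :
    sqNorm (signedPerm σ c x) = sqNorm x := by
  unfold sqNorm
  rw [← Equiv.sum_comp σ.symm (fun i => x i ^ 2)]
  apply Finset.sum_congr rfl
  intro i _
  unfold signedPerm
  by_cases h : i ∈ c
  · rw [if_pos h]; ring
  · rw [if_neg h]

theorem signedPerm_signedPerm (σ τ : Equiv.Perm GolayPt) (c d : Finset GolayPt)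
    (x : GolayPt → ℤ) (i : GolayPt) :
    signedPerm σ c (signedPerm τ d x) i =
      (if i ∈ c then -1 else 1) * (if σ.symm i ∈ d then -1 else 1) * x (τ.symm (σ.symm i)) := by
  unfold signedPerm
  by_cases h1 : i ∈ c <;> by_cases h2 : σ.symm i ∈ d <;> simp [h1, h2]

theorem smul_mem_supports {σ : Equiv.Perm GolayPt} (hσ : σ ∈ M24) {c : Finset GolayPt}
    (hc : c ∈ supports (golayCode : Set (GolayPt → ZMod 2))) :
    σ • c ∈ supports (golayCode : Set (GolayPt → ZMod 2)) := by
  have h : σ • supports (golayCode : Set (GolayPt → ZMod 2)) = supports (golayCode : Set _) := hσ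
  rw [← h]
  exact Set.smul_mem_smul_set hc

/-- The element of `Co0` induced by a signed permutation. -/
noncomputable def monoEl (σ : Equiv.Perm GolayPt) (hσ : σ ∈ M24) (c : Finset GolayPt)
    (hc : c ∈ supports (golayCode : Set (GolayPt → ZMod 2))) : ↥Co0 :=
  ⟨{ toFun := fun v => ⟨signedPerm σ c v.1, signedPerm_mem hσ hc v.2⟩
     invFun := fun v => ⟨signedPerm σ⁻¹ (σ⁻¹ • c) v.1,
       signedPerm_mem (M24.inv_mem hσ) (smul_mem_supports (M24.inv_mem hσ) hc) v.2⟩
     left_inv := by
       intro v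
       apply Subtype.ext
       funext i
       show signedPerm σ⁻¹ (σ⁻¹ • c) (signedPerm σ c v.1) i = v.1 i
       rw [signedPerm_signedPerm]
       have e1 : (σ⁻¹ : Equiv.Perm GolayPt).symm i = σ i := rfl
       have e2 : i ∈ σ⁻¹ • c ↔ σ i ∈ c := by
         rw [Finset.mem_inv_smul_finset_iff]; rfl
       rw [e1, Equiv.symm_apply_apply]
       by_cases h : σ i ∈ c
       · rw [if_pos (e2.2 h), if_pos h]; ring
       · rw [if_neg (fun h' => h (e2.1 h')), if_neg h]; ring
     right_inv := by
       intro v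
       apply Subtype.ext
       funext i
       show signedPerm σ c (signedPerm σ⁻¹ (σ⁻¹ • c) v.1) i = v.1 i
       rw [signedPerm_signedPerm]
       have e1 : (σ⁻¹ : Equiv.Perm GolayPt).symm (σ.symm i) = i := σ.apply_symm_apply i
       have e2 : σ.symm i ∈ σ⁻¹ • c ↔ i ∈ c := by
         rw [Finset.mem_inv_smul_finset_iff]
         show σ (σ.symm i) ∈ c ↔ _
         rw [Equiv.apply_symm_apply]
       rw [e1]
       by_cases h : i ∈ c
       · rw [if_pos h, if_pos (e2.2 h)]; ring
       · rw [if_neg h, if_neg (fun h' => h (e2.1 h'))]; ring },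
   fun v w => Subtype.ext (signedPerm_add σ c v.1 w.1),
   fun v => sqNorm_signedPerm σ c v.1⟩

theorem monoEl_apply (σ : Equiv.Perm GolayPt) (hσ : σ ∈ M24) (c : Finset GolayPt)
    (hc : c ∈ supports (golayCode : Set (GolayPt → ZMod 2))) (v : ↥leechLattice) :
    ((monoEl σ hσ c hc • v : ↥leechLattice) : GolayPt → ℤ) = signedPerm σ c v.1 := rfl

end Cfsg.Agent.Lib.Helper9
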