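import Cfsg.Agent.Lib.Helper9.Leech2

set_option autoImplicit false

namespace Cfsg.Agent.Lib.Helper9

open Cfsg Cfsg.Agent.Lib.Helper10

theorem card_support_le_sum_sq (z : GolayPt → ℤ) :
    ((support₂ (red2 z)).card : ℤ) ≤ ∑ i, z i ^ 2 := by
  rw [support₂, Finset.card_filter]
  push_cast
  apply Finset.sum_le_sum
  intro i _
  by_cases h : z i % 2 = 1
  · rw [if_pos ((red2_ne_zero_iff z i).2 h)]
    have h0 : z i ≠ 0 := by intro h0; rw [h0] at h; omega
    have : 0 < z i ^ 2 := by positivity
    omega
  · rw [if_neg (fun h' => h ((red2_ne_zero_iff z i).1 h'))]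
    positivity

/-- Minimal norm of the lattice, assuming the minimal weight of the code. -/
theorem leech_min_norm_of (hmin : ∀ w ∈ golayCode, w ≠ 0 → 8 ≤ (support₂ w).card)
    {x : GolayPt → ℤ} (hx : x ∈ leechLattice) (h0 : x ≠ 0) : 32 ≤ sqNorm x := by
  have h16 := leech_even hx
  rw [mem_leechLattice_iff_mem_leechSet, mem_leechSet_iff'] at hx
  obtain ⟨e, z, he, h1, h2, h3⟩ := hx
  rcases he with rfl | rfl
  · have hN := sqNorm_expand 0 z x h1
    by_cases hz : red2 z = 0
    · -- all `z i` even
      have hev : ∀ i, z i % 2 = 0 := by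
        intro i
        by_contra h
        have : red2 z i ≠ 0 := (red2_ne_zero_iff z i).2 (by omega)
        rw [hz] at this
        exact this rfl
      have hzy : ∀ i, z i = 2 * (z i / 2) := fun i => by have := hev i; omega
      have hs1 : ∑ i, z i = 2 * ∑ i, z i / 2 := by
        rw [Finset.mul_sum]; exact Finset.sum_congr rfl (fun i _ => hzy i)
      have hs2 : ∑ i, z i ^ 2 = 4 * ∑ i, (z i / 2) ^ 2 := by
        rw [Finset.mul_sum]
        refine Finset.sum_congr rfl (fun i _ => ?_)
        conv_lhs => rw [hzy i]
        ring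
      have hpar : (2 : ℤ) ∣ ∑ i, (z i / 2) ^ 2 - ∑ i, z i / 2 := by
        rw [← Finset.sum_sub_distrib]
        apply Finset.dvd_sum
        intro i _
        generalize z i / 2 = y
        have : y ^ 2 - y = y * (y - 1) := by ring
        rw [this]
        exact (Int.even_mul_pred_self y).two_dvd
      have hpos : 0 < ∑ i, (z i / 2) ^ 2 := by
        obtain ⟨i, hi⟩ : ∃ i, x i ≠ 0 := by
          by_contra h
          push_neg at h
          exact h0 (funext h)
        have hyi : z i / 2 ≠ 0 := by
          intro h
          apply hi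
          rw [h1 i, hzy i, h]; ring
        have h1' : 0 < (z i / 2) ^ 2 := by positivity
        have h2' : (z i / 2) ^ 2 ≤ ∑ i, (z i / 2) ^ 2 :=
          Finset.single_le_sum (f := fun i => (z i / 2) ^ 2) (fun j _ => by positivity)
            (Finset.mem_univ i)
        omega
      rw [hN, hs2]
      omega
    · have h8 := hmin _ h3 hz
      have := card_support_le_sum_sq z
      rw [hN]
      have h8' : (8 : ℤ) ≤ ((support₂ (red2 z)).card : ℤ) := by exact_mod_cast h8
      omega
  · have h24 : (24 : ℤ) ≤ sqNorm x := by
      unfold sqNorm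
      have : ∑ _i : GolayPt, (1 : ℤ) ≤ ∑ i, x i ^ 2 := by
        apply Finset.sum_le_sum
        intro i _
        have hne : x i ≠ 0 := by rw [h1 i]; omega
        have : 0 < x i ^ 2 := by positivity
        omega
      rw [Finset.sum_const, Finset.card_univ, card_golayPt] at this
      simpa using this
    omega

end Cfsg.Agent.Lib.Helper9
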