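import Cfsg.Agent.Lib.Helper53.SADefs
import Cfsg.Agent.Lib.Helper53.JCW

/-!
# Ladder SA, rung LOC
-/

set_option autoImplicit false

namespace Cfsg.Agent.Lib.Helper9.SA

open Cfsg Subgroup
open Cfsg.Agent.Lib.Helper53 Cfsg.Agent.Lib.Helper53.SA
open Cfsg.Agent.Lib.Helper53.JC (cjj QQ)

variable {G : Type*} [Group G]

/-- the two indices -/
theorem hyp_indices [Finite G] {P T : Subgroup G} {x : G} (h : Hyp P T x) :
    QQ P ≤ T ∧ (QQ P).relIndex T = 2 ∧ T.relIndex P = 3 := by
  have hsyl : IsSyl 2 T P := JC.isSylowTwoIn_iff.1 h.syl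
  have hQT : QQ P ≤ T := pCoreOf_le_isSyl hsyl
  have h1 := Subgroup.relIndex_mul_relIndex (QQ P) T P hQT h.syl.1
  rw [h.h6] at h1
  obtain ⟨n, hn⟩ := (h.syl.2.1).index ((QQ P).subgroupOf T)
  have hn' : (QQ P).relIndex T = 2 ^ n := hn
  have hodd := h.syl.2.2
  refine ⟨hQT, ?_⟩
  have hd : T.relIndex P ∣ 6 := ⟨_, by rw [mul_comm]; exact h1.symm⟩
  have hle : T.relIndex P ≤ 6 := Nat.le_of_dvd (by norm_num) hd
  generalize T.relIndex P = m at *
  generalize (QQ P).relIndex T = k at *
  interval_cases m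
  · simp at hd
  · exfalso
    have : k = 6 := by omega
    rw [this] at hn'
    have h2 : (3 : ℕ) ∣ 2 ^ n := ⟨2, by omega⟩
    have := (Nat.Prime.dvd_of_dvd_pow Nat.prime_three h2)
    omega
  · exact absurd hodd (by decide)
  · exact ⟨by omega, rfl⟩
  · exact absurd hodd (by decide)
  · omega
  · exact absurd hodd (by decide)

theorem omega_le_ZP (P T : Subgroup G) : omegaCenterOf T ≤ ZP P T := by
  intro z hz
  exact subset_closure ⟨1, one_mem _, z, hz, by simp⟩

theorem ZP_le_of {P T N : Subgroup G} (h1 : omegaCenterOf T ≤ N) (h2 : P ≤ normalizer (N : Set G)) :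
    ZP P T ≤ N := by
  rw [ZP, closure_le]
  rintro _ ⟨p, hp, z, hz, rfl⟩
  exact (mem_normalizer_iff.1 (h2 hp) z).1 (h1 hz)

theorem le_normalizer_ZP (P T : Subgroup G) : P ≤ normalizer (ZP P T : Set G) := by
  intro a ha
  rw [← cj_eq_self_iff]
  have key : ∀ b ∈ P, cjj b (ZP P T) ≤ ZP P T := by
    intro b hb
    show (ZP P T).map (MulAut.conj b).toMonoidHom ≤ ZP P T
    rw [ZP, MonoidHom.map_closure, closure_le]
    rintro _ ⟨_, ⟨p, hp, z, hz, rfl⟩, rfl⟩
    refine subset_closure ⟨b * p, mul_mem hb hp, z, hz, ?_⟩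
    simp [MulAut.conj_apply, mul_assoc]
  apply le_antisymm (key a ha)
  have := key a⁻¹ (inv_mem ha)
  rw [cj_le_iff, inv_inv] at this
  exact this

theorem loc [Finite G] : LocSt G := by
  intro P T x h
  obtain ⟨hQT, hi2, hi3⟩ := hyp_indices h
  have hTP : T ≤ P := h.syl.1
  have hT2 : IsPGroup 2 T := h.syl.2.1
  have hPQ : P ≤ normalizer (QQ P : Set G) := le_normalizer_pCoreOf 2 P
  have hmax : ∀ a ∈ P, a ∉ T → ∀ H : Subgroup G, T ≤ H → a ∈ H → P ≤ H := by
    intro a ha haT H hTH haH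
    rcases JC.eq_or_eq_of_relIndex_prime Nat.prime_three (le_inf hTH hTP) inf_le_right hi3 with h1 | h1
    · exact absurd (h1 ▸ (⟨haH, ha⟩ : a ∈ H ⊓ P)) haT
    · exact h1 ▸ inf_le_left
  have hnotn : ¬ P ≤ normalizer (T : Set G) := by
    intro hn
    have h1 : T ≤ QQ P := le_pCoreOf hTP hn hT2
    have h2 : (QQ P).relIndex T = 1 := relIndex_eq_one.2 h1
    omega
  have hselfn : ∀ a ∈ P, cjj a T = T → a ∈ T := by
    intro a ha haT
    by_contra hc
    exact hnotn (hmax a ha hc _ le_normalizer (cj_eq_self_iff.1 haT))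
  have hOm : omegaCenterOf T ≤ omegaCenterOf (QQ P) := by
    intro z hz
    obtain ⟨hz1, hz2, hz3⟩ := JC.mem_omegaCenterOf_iff.1 hz
    have hz4 : z ∈ centralizer (QQ P : Set G) := centralizer_le hQT hz2
    exact JC.mem_omegaCenterOf_iff.2 ⟨h.hchar ⟨hTP hz1, hz4⟩, hz4, hz3⟩
  have hZOm : ZP P T ≤ omegaCenterOf (QQ P) :=
    ZP_le_of hOm (hPQ.trans (JC.normalizer_le_normalizer_omegaCenterOf _))
  have hxT : cjj x T = T := cj_eq_self_iff.2 h.hx
  refine
    { TP := hTP
      QT := hQT
      ind2 := ?_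
      max := hmax
      selfn := hselfn
      inter := ?_
      exm := ?_
      ZQ := hZOm.trans (JC.omegaCenterOf_le _)
      Zn := le_normalizer_ZP P T
      QZ := ?_
      Zexp := ?_
      CZ := ?_
      Zne := ?_
      xT := hxT
      xxP := ?_
      PxP := ?_ }
  · intro a b ha hb haQ hbQ
    have := (Subgroup.mul_mem_iff_of_index_two (H := (QQ P).subgroupOf T) hi2
      (a := ⟨a, ha⟩) (b := ⟨b, hb⟩)).2
    simp only [mem_subgroupOf] at this
    exact this ⟨fun h => absurd h haQ, fun h => absurd h hbQ⟩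
  · intro a ha haT
    have h1 : QQ P ≤ T ⊓ cjj a T := by
      refine le_inf hQT ?_
      have : cjj a (QQ P) = QQ P := cj_eq_self_iff.2 (hPQ ha)
      rw [← this]
      exact cj_mono a hQT
    rcases JC.eq_or_eq_of_relIndex_prime Nat.prime_two h1 inf_le_left hi2 with h2 | h2
    · exact h2.le
    · exfalso
      have h3 : T ≤ cjj a T := inf_eq_left.1 h2
      have h4 : cjj a T = T :=
        (Subgroup.eq_of_le_of_card_ge h3 (card_cj T a).le).symm
      exact haT (hselfn a ha h4)
  · by_contra hc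
    have hc' : P ≤ T := fun a ha => by
      by_contra haT
      exact hc ⟨a, ha, haT⟩
    have : T.relIndex P = 1 := relIndex_eq_one.2 hc'
    omega
  · rw [le_centralizer_iff]
    exact hZOm.trans (JC.omegaCenterOf_le_centralizer _)
  · intro z hz
    have := (JC.mem_omegaCenterOf_iff.1 (hZOm hz)).2.2
    rwa [pow_two] at this
  · by_cases hc : P ⊓ centralizer (ZP P T : Set G) ≤ T
    · apply le_pCoreOf inf_le_left _ (hT2.to_le hc)
      exact le_normalizer_inf le_normalizer
        ((le_normalizer_ZP P T).trans (JC.normalizer_le_normalizer_cent _))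
    · exfalso
      obtain ⟨d, hd, hdT⟩ := SetLike.not_le_iff_exists.1 hc
      apply h.hZ
      apply hmax d hd.1 hdT
      · rw [le_centralizer_iff]
        exact JC.omegaCenterOf_le_centralizer T
      · exact centralizer_le (omega_le_ZP P T) hd.2
  · intro hb
    apply h.hZ
    have : omegaCenterOf T = ⊥ := le_bot_iff.1 (hb ▸ omega_le_ZP P T)
    rw [this]
    intro a _
    rw [mem_centralizer_iff]
    intro y hy
    have hy' : y = 1 := hy
    rw [hy']
    simp
  · exact (cj_cj P x x).trans (cj_eq_self_of_mem (hTP h.hx2))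
  · have h1 : T ≤ P ⊓ cjj x P := by
      refine le_inf hTP ?_
      rw [← hxT]
      exact cj_mono x hTP
    rcases JC.eq_or_eq_of_relIndex_prime Nat.prime_three h1 inf_le_left hi3 with h2 | h2
    · exact h2
    · exfalso
      have h3 : P ≤ cjj x P := inf_eq_left.1 h2
      have h4 : cjj x P = P := (Subgroup.eq_of_le_of_card_ge h3 (card_cj P x).le).symm
      have h5 : x ∈ normalizer (QQ P : Set G) :=
        normalizer_le_normalizer_pCoreOf 2 P (cj_eq_self_iff.1 h4)
      have h6 : QQ P = ⊥ := h.hcore _ hQT hPQ h5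
      have h7 : P ≤ QQ P := by
        refine le_trans (le_inf le_rfl ?_) h.hchar
        have : pCoreOf 2 P = ⊥ := h6
        rw [this]
        intro a _
        rw [mem_centralizer_iff]
        intro y hy
        have hy' : y = 1 := hy
        rw [hy']
        simp
      have h8 : (pCoreOf 2 P).relIndex P = 1 := relIndex_eq_one.2 h7
      have := h.h6
      omega

end Cfsg.Agent.Lib.Helper9.SA
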