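import Cfsg.Agent.Lib.Helper53.SADefs
import Cfsg.Agent.Lib.Helper53.JCW

/-!
# Ladder SA, rung END
-/

set_option autoImplicit false

namespace Cfsg.Agent.Lib.Helper9.SA

open Cfsg Subgroup
open Cfsg.Agent.Lib.Helper53 Cfsg.Agent.Lib.Helper53.SA
open Cfsg.Agent.Lib.Helper53.JC (cjj QQ)

variable {G : Type*} [Group G]

theorem end1 [Finite G] (hl : LocSt G) : EndSt G := by
  rintro P T x h ⟨g, k, ⟨p, hp, p', hp', rfl⟩, hnot⟩
  have L := hl P T x h
  have hPQ : P ≤ normalizer (QQ P : Set G) := le_normalizer_pCoreOf 2 P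
  -- reduce to the base edge
  have hZ : ¬ ZP P T ≤ cjj x (QQ P) := by
    intro hc
    apply hnot
    have e1 : cjj g (ZP P T) = cjj (g * p) (ZP P T) := by
      have : cjj p (ZP P T) = ZP P T := cj_eq_self_iff.2 (L.Zn hp)
      calc cjj g (ZP P T) = cjj g (cjj p (ZP P T)) := by rw [this]
        _ = cjj (g * p) (ZP P T) := cj_cj _ _ _
    have e2 : cjj (g * p * x * p') (QQ P) = cjj (g * p) (cjj x (QQ P)) := by
      have : cjj p' (QQ P) = QQ P := cj_eq_self_iff.2 (hPQ hp')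
      calc cjj (g * p * x * p') (QQ P) = cjj (g * p * x) (cjj p' (QQ P)) := (cj_cj _ _ _).symm
        _ = cjj (g * p * x) (QQ P) := by rw [this]
        _ = cjj (g * p) (cjj x (QQ P)) := (cj_cj _ _ _).symm
    rw [e1, e2]
    exact cj_mono _ hc
  obtain ⟨z, hz, hzQ'⟩ := SetLike.not_le_iff_exists.1 hZ
  have hzQ : z ∈ QQ P := L.ZQ hz
  have hxinv : ∀ a ∈ T, x⁻¹ * a * x ∈ T := by
    intro a ha
    have : a ∈ cjj x T := by rw [L.xT]; exact ha
    exact mem_cj.1 this
  -- squares of `Q` are squares of `Q ⊓ Q'`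
  have key : ∀ a ∈ QQ P, ∃ c ∈ cjj x (QQ P), a * a = c * c := by
    intro a ha
    by_cases haQ' : a ∈ cjj x (QQ P)
    · exact ⟨a, haQ', rfl⟩
    · refine ⟨a * z, ?_, ?_⟩
      · rw [mem_cj] at haQ' hzQ' ⊢
        have := L.ind2 _ _ (hxinv a (L.QT ha)) (hxinv z (L.QT hzQ)) haQ' hzQ'
        have e : x⁻¹ * (a * z) * x = x⁻¹ * a * x * (x⁻¹ * z * x) := by group
        rw [e]
        exact this
      · have hc : z * a = a * z := mem_centralizer_iff.1 (L.QZ ha) z hz
        calc a * a = a * a * (z * z) := by rw [L.Zexp z hz, mul_one]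
          _ = a * (a * z) * z := by group
          _ = a * (z * a) * z := by rw [hc]
          _ = a * z * (a * z) := by group
  set F : Subgroup G := closure {y : G | ∃ a ∈ QQ P, y = a * a} with hF
  have hFQ : F ≤ QQ P := by
    rw [hF, closure_le]
    rintro _ ⟨a, ha, rfl⟩
    exact mul_mem ha ha
  have hFP : P ≤ normalizer (F : Set G) := by
    intro b hb
    rw [← cj_eq_self_iff]
    apply cj_eq_of_le
    rw [hF, MonoidHom.map_closure, closure_le]
    rintro _ ⟨_, ⟨a, ha, rfl⟩, rfl⟩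
    refine subset_closure ⟨b * a * b⁻¹, (mem_normalizer_iff.1 (hPQ hb) a).1 ha, ?_⟩
    simp [MulAut.conj_apply, mul_assoc]
  have hFx : x ∈ normalizer (F : Set G) := by
    rw [← cj_eq_self_iff]
    have h1 : F ≤ cjj x F := by
      rw [hF, closure_le]
      rintro _ ⟨a, ha, rfl⟩
      obtain ⟨c, hc, e⟩ := key a ha
      rw [e]
      obtain ⟨d, hd, rfl⟩ := hc
      refine ⟨d * d, subset_closure ⟨d, hd, rfl⟩, ?_⟩
      simp
    exact (Subgroup.eq_of_le_of_card_ge h1 (card_cj F x).le).symm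
  have hbot : F = ⊥ := h.hcore F (hFQ.trans L.QT) hFP hFx
  intro a ha
  have : a * a ∈ F := subset_closure ⟨a, ha, rfl⟩
  rw [hbot] at this
  exact mem_bot.1 this

end Cfsg.Agent.Lib.Helper9.SA
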