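import Cfsg.Agent.Lib.Helper53.SADefs
import Cfsg.Agent.Lib.Helper53.JCW
import Cfsg.Agent.Lib.Helper56.SAGeoB

/-!
# Ladder SA, rung GEO
-/

set_option autoImplicit false

namespace Cfsg.Agent.Lib.Helper9.SA

open Cfsg Subgroup
open Cfsg.Agent.Lib.Helper53 Cfsg.Agent.Lib.Helper53.SA Cfsg.Agent.Lib.Helper56.SA
open Cfsg.Agent.Lib.Helper53.JC (cjj QQ)

variable {G : Type*} [Group G]

theorem edge_form {P T : Subgroup G} {x : G} (L : Loc P T x) {g h : G} (hA : CAdj P x g h) :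
    ∃ p ∈ P, cjj g P = cjj (g * p) P ∧ cjj g (QQ P) = cjj (g * p) (QQ P) ∧
      cjj h P = cjj (g * p) (cjj x P) ∧ cjj h (QQ P) = cjj (g * p) (cjj x (QQ P)) ∧
      cjj g P ⊓ cjj h P = cjj (g * p) T := by
  obtain ⟨p, hp, p', hp', rfl⟩ := hA
  obtain ⟨e1, e2⟩ := cjj_edge (X := P) le_normalizer (x := x) (g := g) hp hp'
  obtain ⟨f1, f2⟩ := cjj_edge (X := QQ P) (le_normalizer_pCoreOf 2 P) (x := x) (g := g) hp hp'
  refine ⟨p, hp, e1, f1, e2, f2, ?_⟩
  rw [e1, e2, ← cjj_inf', L.PxP]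

theorem cjj_le_cjj_iff {A B : Subgroup G} (u : G) : cjj u A ≤ cjj u B ↔ A ≤ B :=
  Subgroup.map_le_map_iff_of_injective (MulAut.conj u).injective

theorem cjj_inj {A B : Subgroup G} (u : G) : cjj u A = cjj u B ↔ A = B :=
  (Subgroup.map_injective (MulAut.conj u).injective).eq_iff

theorem geo [Finite G] (hl : LocSt G) : GeoSt G := by
  intro P T x h
  have L := hl P T x h
  have hPQ : P ≤ normalizer (QQ P : Set G) := le_normalizer_pCoreOf 2 P
  refine
    { symm := ?_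
      QP := fun g => cj_mono g (pCoreOf_le 2 P)
      ZQ := fun g => cj_mono g L.ZQ
      Qn := ?_
      Zn := ?_
      QZ := ?_
      Zexp := ?_
      CZ := ?_
      QT := ?_
      ind2 := ?_
      max := ?_
      act := ?_
      Pmul := fun a g => cjj_mul P a g
      Qmul := fun a g => cjj_mul (QQ P) a g
      Zmul := fun a g => cjj_mul (ZP P T) a g
      same := ?_
      inter := ?_
      move := ?_
      exm := ?_
      noZ := geo_noZ h L
      noN := geo_noN h L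
      exc := geo_exc h L }
  · -- symm
    rintro g _ ⟨p, hp, p', hp', rfl⟩
    refine ⟨p'⁻¹, inv_mem hp', (x * x)⁻¹ * p⁻¹, mul_mem (inv_mem (L.TP h.hx2)) (inv_mem hp), ?_⟩
    group
  · intro g
    show cjj g P ≤ normalizer (cjj g (QQ P) : Set G)
    rw [← cjj_normalizer]
    exact cj_mono g hPQ
  · intro g
    show cjj g P ≤ normalizer (cjj g (ZP P T) : Set G)
    rw [← cjj_normalizer]
    exact cj_mono g L.Zn
  · intro g
    show cjj g (QQ P) ≤ centralizer (cjj g (ZP P T) : Set G)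
    rw [← cjj_centralizer]
    exact cj_mono g L.QZ
  · rintro g _ ⟨z, hz, rfl⟩
    have := L.Zexp z hz
    simp only [MulEquiv.coe_toMonoidHom, ← map_mul, this, map_one]
  · intro g
    show cjj g P ⊓ centralizer (cjj g (ZP P T) : Set G) ≤ cjj g (QQ P)
    rw [← cjj_centralizer, ← cjj_inf']
    exact cj_mono g L.CZ
  · -- QT
    intro g k hA
    obtain ⟨p, hp, e1, e2, e3, e4, e5⟩ := edge_form L hA
    show cjj g (QQ P) ≤ cjj k P
    rw [e2, e3, cjj_le_cjj_iff]
    exact L.QT.trans (L.PxP ▸ inf_le_right)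
  · -- ind2
    intro g k hA a b ha hb haQ hbQ
    obtain ⟨p, hp, e1, e2, e3, e4, e5⟩ := edge_form L hA
    change a ∈ cjj g P ⊓ cjj k P at ha
    change b ∈ cjj g P ⊓ cjj k P at hb
    change a ∉ cjj g (QQ P) at haQ
    change b ∉ cjj g (QQ P) at hbQ
    show a * b ∈ cjj g (QQ P)
    rw [e5, mem_cj] at ha hb
    rw [e2, mem_cj] at haQ hbQ ⊢
    have := L.ind2 _ _ ha hb haQ hbQ
    have e : (g * p)⁻¹ * (a * b) * (g * p) = (g * p)⁻¹ * a * (g * p) * ((g * p)⁻¹ * b * (g * p)) := by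
      group
    rw [e]
    exact this
  · -- max
    intro g k hA a ha hak H hH haH
    obtain ⟨p, hp, e1, e2, e3, e4, e5⟩ := edge_form L hA
    change a ∈ cjj g P at ha
    change a ∉ cjj k P at hak
    change cjj g P ⊓ cjj k P ≤ H at hH
    show cjj g P ≤ H
    rw [e5, cj_le_iff] at hH
    rw [e1, cj_le_iff]
    rw [e1, mem_cj] at ha
    have hak' : (g * p)⁻¹ * a * (g * p) ∉ T := by
      intro hc
      apply hak
      have : a ∈ cjj (g * p) T := mem_cj.2 hc
      rw [← e5] at this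
      exact this.2
    apply L.max _ ha hak' _ hH
    rw [mem_cj]
    have e : (g * p)⁻¹⁻¹ * ((g * p)⁻¹ * a * (g * p)) * (g * p)⁻¹ = a := by group
    rw [e]
    exact haH
  · -- act
    rintro g _ ⟨p, hp, p', hp', rfl⟩ a ha
    change a ∈ cjj g P at ha
    rw [mem_cj] at ha
    refine ⟨g⁻¹ * a * g * p, mul_mem ha hp, p', hp', ?_⟩
    group
  · -- same
    rintro g _ _ ⟨p, hp, p', hp', rfl⟩ ⟨q, hq, q', hq', rfl⟩ heq
    change cjj g P ⊓ cjj (g * p * x * p') P = cjj g P ⊓ cjj (g * q * x * q') P at heq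
    show cjj (g * p * x * p') (QQ P) = cjj (g * q * x * q') (QQ P)
    obtain ⟨e1, e2⟩ := cjj_edge (X := P) le_normalizer (x := x) (g := g) hp hp'
    obtain ⟨e1', e2'⟩ := cjj_edge (X := P) le_normalizer (x := x) (g := g) hq hq'
    obtain ⟨-, f2⟩ := cjj_edge (X := QQ P) hPQ (x := x) (g := g) hp hp'
    obtain ⟨-, f2'⟩ := cjj_edge (X := QQ P) hPQ (x := x) (g := g) hq hq'
    have h1 : cjj (g * p) T = cjj (g * q) T := by
      have a1 : cjj g P ⊓ cjj (g * p * x * p') P = cjj (g * p) T := by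
        rw [e2]; nth_rewrite 1 [e1]; rw [← cjj_inf', L.PxP]
      have a2 : cjj g P ⊓ cjj (g * q * x * q') P = cjj (g * q) T := by
        rw [e2']; nth_rewrite 1 [e1']; rw [← cjj_inf', L.PxP]
      rw [← a1, ← a2, heq]
    have h2 : cjj (q⁻¹ * p) T = T := by
      have : g * p = g * q * (q⁻¹ * p) := by group
      rw [this, cjj_mul T (g * q), cjj_inj] at h1
      exact h1
    have h3 : q⁻¹ * p ∈ T := L.selfn _ (mul_mem (inv_mem hq) hp) h2
    have h4 : x⁻¹ * (q⁻¹ * p) * x ∈ T := by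
      have : q⁻¹ * p ∈ cjj x T := by rw [L.xT]; exact h3
      exact mem_cj.1 this
    rw [f2, f2', ← cjj_mul, ← cjj_mul]
    have e : g * p * x = g * q * x * (x⁻¹ * (q⁻¹ * p) * x) := by group
    rw [e, cjj_mul (QQ P) (g * q * x), cjj_eq_self_iff'.2 (hPQ (L.TP h4))]
  · -- inter
    rintro g _ _ ⟨p, hp, p', hp', rfl⟩ ⟨q, hq, q', hq', rfl⟩ hne
    change cjj g P ⊓ cjj (g * p * x * p') P ≠ cjj g P ⊓ cjj (g * q * x * q') P at hne
    show cjj g P ⊓ cjj (g * p * x * p') P ⊓ cjj (g * q * x * q') P ≤ cjj g (QQ P)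
    obtain ⟨e1, e2⟩ := cjj_edge (X := P) le_normalizer (x := x) (g := g) hp hp'
    obtain ⟨e1', e2'⟩ := cjj_edge (X := P) le_normalizer (x := x) (g := g) hq hq'
    obtain ⟨f1, -⟩ := cjj_edge (X := QQ P) hPQ (x := x) (g := g) hp hp'
    have a1 : cjj g P ⊓ cjj (g * p * x * p') P = cjj (g * p) T := by
      rw [e2]; nth_rewrite 1 [e1]; rw [← cjj_inf', L.PxP]
    have a2 : cjj g P ⊓ cjj (g * q * x * q') P = cjj (g * q) T := by
      rw [e2']; nth_rewrite 1 [e1']; rw [← cjj_inf', L.PxP]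
    rw [a1, a2] at hne
    have hle : cjj g P ⊓ cjj (g * p * x * p') P ⊓ cjj (g * q * x * q') P
        ≤ cjj (g * p) T ⊓ cjj (g * q) T := by
      rw [← a1, ← a2]
      exact le_inf inf_le_left (le_inf (inf_le_left.trans inf_le_left) inf_le_right)
    refine hle.trans ?_
    have e : g * q = g * p * (p⁻¹ * q) := by group
    rw [e, cjj_mul T (g * p), ← cjj_inf', f1, cjj_le_cjj_iff]
    apply L.inter _ (mul_mem (inv_mem hp) hq)
    intro hc
    apply hne
    rw [e, cjj_mul T (g * p), cjj_eq_self_iff'.2 (le_normalizer hc)]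
  · -- move
    intro g k hA a ha hak heq
    obtain ⟨p, hp, e1, e2, e3, e4, e5⟩ := edge_form L hA
    change a ∈ cjj g P at ha
    change a ∉ cjj k P at hak
    change cjj g P ⊓ cjj (a * k) P = cjj g P ⊓ cjj k P at heq
    have h1 : cjj g P ⊓ cjj (a * k) P = cjj a (cjj g P ⊓ cjj k P) := by
      rw [cjj_inf', cjj_eq_self_iff'.2 (le_normalizer ha), cjj_mul]
    rw [h1, e5, ← cjj_mul] at heq
    have e : a * (g * p) = g * p * ((g * p)⁻¹ * a * (g * p)) := by group
    rw [e, cjj_mul T (g * p), cjj_inj] at heq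
    rw [e1, mem_cj] at ha
    have h2 := L.selfn _ ha heq
    apply hak
    have : a ∈ cjj (g * p) T := mem_cj.2 h2
    rw [← e5] at this
    exact this.2
  · -- exm
    intro g k hA
    obtain ⟨p, hp, e1, e2, e3, e4, e5⟩ := edge_form L hA
    obtain ⟨a, ha, haT⟩ := L.exm
    refine ⟨(g * p) * a * (g * p)⁻¹, ?_, ?_⟩
    · show _ ∈ cjj g P
      rw [e1]
      exact cj_mem _ ha
    · intro hc
      change _ ∈ cjj k P at hc
      apply haT
      have h1 : (g * p) * a * (g * p)⁻¹ ∈ cjj g P ⊓ cjj k P := by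
        refine ⟨?_, hc⟩
        rw [e1]
        exact cj_mem _ ha
      rw [e5, mem_cj] at h1
      simpa [mul_assoc] using h1

end Cfsg.Agent.Lib.Helper9.SA
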