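import Cfsg.Agent.Lib.Helper9.M22Data

set_option autoImplicit false

namespace Cfsg.Agent.Lib.Helper9

open Cfsg Cfsg.Agent.Lib.Helper33
open scoped Pointwise

theorem exists_notMem_of_card_lt (s : Finset GolayPt) (h : s.card < 24) : ∃ z, z ∉ s := by
  by_contra hc
  push Not at hc
  have : s = Finset.univ := Finset.eq_univ_iff_forall.2 hc
  rw [this, Finset.card_univ, ← Nat.card_eq_fintype_card, natCard_golayPt] at h
  exact lt_irrefl _ h

theorem fixL_compl_mem {H : Subgroup (Equiv.Perm GolayPt)} {l : List ℕ} {g : Equiv.Perm GolayPt}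
    (hg : g ∈ fixL H l) {x : GolayPt} (hx : x ∈ unmask (maskL l ^^^ 0xFFFFFF)) :
    g x ∈ unmask (maskL l ^^^ 0xFFFFFF) := by
  have hI : Inv g (maskL l ^^^ 0xFFFFFF) := (fx_maskL hg.2).inv.xor (Inv.full g)
  rw [mem_unmask] at hx ⊢
  rw [hI x]; exact hx

theorem ncard_unmask {m : ℕ} (hm : m < 2 ^ 24) : (unmask m : Set GolayPt).ncard = Helper33.popc m := by
  rw [Set.ncard_coe_finset, card_unmask hm]

theorem mem22 : ∀ q : GolayPt, q ∈ unmask (maskL [0, 23] ^^^ 0xFFFFFF) ↔ (q ≠ pt 0 ∧ q ≠ pt 23) := by
  decide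

theorem mem23 : ∀ q : GolayPt, q ∈ unmask (maskL [23] ^^^ 0xFFFFFF) ↔ q ≠ pt 23 := by
  decide

/-- The stabilizer of the two base points is simple. -/
theorem simple_fix2 : IsSimpleGroup (fixL M24 [0, 23]) := by
  apply simple_of_two_gens (fixL M24 [0, 23]) (permOf m22A) (permOf m22B) 11 K22_eq
    orderOf_m22A orderOf_m22B (by rw [card_fix2]; decide)
    (unmask (maskL [0, 23] ^^^ 0xFFFFFF) : Set GolayPt)
  · intro g hg x hx
    exact fixL_compl_mem hg hx
  · intro g hg h
    ext q
    by_cases hq : q ∈ unmask (maskL [0, 23] ^^^ 0xFFFFFF)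
    · rw [h q hq]; rfl
    · rw [mem22] at hq
      have : q = pt 0 ∨ q = pt 23 := by tauto
      rcases this with rfl | rfl
      · rw [hg.2 0 (by simp)]; rfl
      · rw [hg.2 23 (by simp)]; rfl
  · intro x hx y hy y' hy' h1 h2
    have hx' := (mem22 x).1 hx
    have hy1 := (mem22 y).1 hy
    have hy2 := (mem22 y').1 hy'
    have h023 : pt 23 ≠ pt 0 := by decide
    obtain ⟨g, hg, h⟩ := m24_map_list [pt 23, pt 0, x, y] [pt 23, pt 0, x, y'] rfl (by simp)
      (by simp only [List.nodup_cons, List.mem_cons, List.not_mem_nil, or_false, not_or,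
            not_false_eq_true, List.nodup_nil, and_true]
          exact ⟨⟨h023, hx'.2.symm, hy1.2.symm⟩, ⟨hx'.1.symm, hy1.1.symm⟩, h1.symm⟩)
      (by simp only [List.nodup_cons, List.mem_cons, List.not_mem_nil, or_false, not_or,
            not_false_eq_true, List.nodup_nil, and_true]
          exact ⟨⟨h023, hx'.2.symm, hy2.2.symm⟩, ⟨hx'.1.symm, hy2.1.symm⟩, h2.symm⟩)
    simp only [List.map_cons, List.map_nil, List.cons.injEq, and_true] at h
    refine ⟨g, ⟨hg, fun i hi => ?_⟩, h.2.2.1, h.2.2.2⟩
    simp only [List.mem_cons, List.not_mem_nil, or_false] at hi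
    rcases hi with rfl | rfl
    · exact h.2.1
    · exact h.1
  · exact ⟨pt 1, by decide⟩
  · rw [ncard_unmask (by decide)]; decide +kernel

/-- The stabilizer of the base point is simple. -/
theorem simple_fix1 : IsSimpleGroup (fixL M24 [23]) := by
  apply simple_of_fix_simple (fixL M24 [23]) 0
    (unmask (maskL [23] ^^^ 0xFFFFFF) : Set GolayPt) (by decide)
    (q := 23) (hq := by norm_num) (hq2 := by decide)
  · intro g hg x hx
    exact fixL_compl_mem hg hx
  · intro g hg h
    ext q
    by_cases hq : q ∈ unmask (maskL [23] ^^^ 0xFFFFFF)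
    · rw [h q hq]; rfl
    · rw [mem23] at hq
      have : q = pt 23 := by tauto
      subst this
      rw [hg.2 23 (by simp)]; rfl
  · intro x hx y hy y' hy' h1 h2
    have hx' := (mem23 x).1 hx
    have hy1 := (mem23 y).1 hy
    have hy2 := (mem23 y').1 hy'
    obtain ⟨g, hg, h⟩ := m24_map_list [pt 23, x, y] [pt 23, x, y'] rfl (by simp)
      (by simp only [List.nodup_cons, List.mem_cons, List.not_mem_nil, or_false, not_or,
            not_false_eq_true, List.nodup_nil, and_true]
          exact ⟨⟨hx'.symm, hy1.symm⟩, h1.symm⟩)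
      (by simp only [List.nodup_cons, List.mem_cons, List.not_mem_nil, or_false, not_or,
            not_false_eq_true, List.nodup_nil, and_true]
          exact ⟨⟨hx'.symm, hy2.symm⟩, h2.symm⟩)
    simp only [List.map_cons, List.map_nil, List.cons.injEq, and_true] at h
    refine ⟨g, ⟨hg, fun i hi => ?_⟩, h.2.1, h.2.2⟩
    simp only [List.mem_cons, List.not_mem_nil, or_false] at hi
    subst hi
    exact h.1
  · intro x hx y hy z hz h1 h2 h3
    have hx' := (mem23 x).1 hx
    have hy1 := (mem23 y).1 hy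
    have hz1 := (mem23 z).1 hz
    obtain ⟨z', hz'⟩ := exists_notMem_of_card_lt {pt 23, x, y, z}
      (lt_of_le_of_lt (Finset.card_le_four) (by decide))
    simp only [Finset.mem_insert, Finset.mem_singleton, not_or] at hz'
    obtain ⟨g, hg, h⟩ := m24_map_list [pt 23, x, y, z] [pt 23, x, y, z'] rfl (by simp)
      (by simp only [List.nodup_cons, List.mem_cons, List.not_mem_nil, or_false, not_or,
            not_false_eq_true, List.nodup_nil, and_true]
          exact ⟨⟨hx'.symm, hy1.symm, hz1.symm⟩, ⟨h1.symm, h2.symm⟩, h3.symm⟩)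
      (by simp only [List.nodup_cons, List.mem_cons, List.not_mem_nil, or_false, not_or,
            not_false_eq_true, List.nodup_nil, and_true]
          exact ⟨⟨hx'.symm, hy1.symm, fun h => hz'.1 h.symm⟩,
            ⟨h1.symm, fun h => hz'.2.1 h.symm⟩, fun h => hz'.2.2.1 h.symm⟩)
    simp only [List.map_cons, List.map_nil, List.cons.injEq, and_true] at h
    refine ⟨g, ⟨hg, fun i hi => ?_⟩, h.2.1, h.2.2.1, ?_⟩
    · simp only [List.mem_cons, List.not_mem_nil, or_false] at hi
      subst hi
      exact h.1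
    · rw [h.2.2.2]; exact hz'.2.2.2
  · rw [fixL_fixL]
    exact simple_fix2
  · rw [ncard_unmask (by decide)]; decide +kernel

/-- `M24` is simple. -/
theorem simple_M24 : IsSimpleGroup M24 := by
  apply simple_of_fix_simple M24 23 Set.univ (Set.mem_univ _)
    (q := 3) (hq := by norm_num) (hq2 := by decide)
  · intro g _ x _; exact Set.mem_univ _
  · intro g _ h
    ext q
    rw [h q (Set.mem_univ _)]; rfl
  · intro x _ y _ y' _ h1 h2
    obtain ⟨g, hg, h⟩ := m24_map_list [x, y] [x, y'] rfl (by simp)
      (by simp only [List.nodup_cons, List.mem_cons, List.not_mem_nil, or_false,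
            not_false_eq_true, List.nodup_nil, and_true]
          exact h1.symm)
      (by simp only [List.nodup_cons, List.mem_cons, List.not_mem_nil, or_false,
            not_false_eq_true, List.nodup_nil, and_true]
          exact h2.symm)
    simp only [List.map_cons, List.map_nil, List.cons.injEq, and_true] at h
    exact ⟨g, hg, h.1, h.2⟩
  · intro x _ y _ z _ h1 h2 h3
    obtain ⟨z', hz'⟩ := exists_notMem_of_card_lt {x, y, z}
      (lt_of_le_of_lt (Finset.card_le_three) (by decide))
    simp only [Finset.mem_insert, Finset.mem_singleton, not_or] at hz'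
    obtain ⟨g, hg, h⟩ := m24_map_list [x, y, z] [x, y, z'] rfl (by simp)
      (by simp only [List.nodup_cons, List.mem_cons, List.not_mem_nil, or_false, not_or,
            not_false_eq_true, List.nodup_nil, and_true]
          exact ⟨⟨h1.symm, h2.symm⟩, h3.symm⟩)
      (by simp only [List.nodup_cons, List.mem_cons, List.not_mem_nil, or_false, not_or,
            not_false_eq_true, List.nodup_nil, and_true]
          exact ⟨⟨h1.symm, fun h => hz'.1 h.symm⟩, fun h => hz'.2.1 h.symm⟩)
    simp only [List.map_cons, List.map_nil, List.cons.injEq, and_true] at h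
    exact ⟨g, hg, h.1, h.2.1, by rw [h.2.2]; exact hz'.2.2⟩
  · exact simple_fix1
  · rw [Set.ncard_univ, natCard_golayPt]; decide

/-- Any point stabilizer in `M24` is simple. -/
theorem simple_stab1 (p : GolayPt) : IsSimpleGroup (MulAction.stabilizer M24 p) := by
  obtain ⟨u, hu, h⟩ := m24_map_list [p] [pt 23] rfl (by simp) (by simp) (by simp)
  simp only [List.map_cons, List.map_nil, List.cons.injEq, and_true] at h
  have := simple_fix1
  refine (conjEquiv u hu (MulAction.stabilizer M24 p) (fixL M24 [23]) (fun g hg => hg.1)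
    (fun g => ?_)).isSimpleGroup
  have hinv : u⁻¹ (pt 23) = p := by rw [Equiv.Perm.inv_eq_iff_eq, h]
  constructor
  · intro hg
    have hg' : (g : Equiv.Perm GolayPt) p = p := hg
    refine ⟨M24.mul_mem (M24.mul_mem hu g.2) (M24.inv_mem hu), fun i hi => ?_⟩
    simp only [List.mem_cons, List.not_mem_nil, or_false] at hi
    subst hi
    rw [Equiv.Perm.mul_apply, Equiv.Perm.mul_apply, hinv, hg', h]
  · intro hg
    have h1 := hg.2 23 (by simp)
    rw [Equiv.Perm.mul_apply, Equiv.Perm.mul_apply, hinv, ← h] at h1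
    exact u.injective h1

/-- Any two-point stabilizer in `M24` is simple. -/
theorem simple_stab2 (p q : GolayPt) (hpq : p ≠ q) :
    IsSimpleGroup ↥(MulAction.stabilizer M24 p ⊓ MulAction.stabilizer M24 q) := by
  obtain ⟨u, hu, h⟩ := m24_map_list [p, q] [pt 23, pt 0] rfl (by simp) (by simpa using hpq)
    (by decide)
  simp only [List.map_cons, List.map_nil, List.cons.injEq, and_true] at h
  have := simple_fix2
  refine (conjEquiv u hu _ (fixL M24 [0, 23]) (fun g hg => hg.1) (fun g => ?_)).isSimpleGroup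
  have hinv : u⁻¹ (pt 23) = p := by rw [Equiv.Perm.inv_eq_iff_eq, h.1]
  have hinv0 : u⁻¹ (pt 0) = q := by rw [Equiv.Perm.inv_eq_iff_eq, h.2]
  constructor
  · intro hg
    have hg1 : (g : Equiv.Perm GolayPt) p = p := hg.1
    have hg2 : (g : Equiv.Perm GolayPt) q = q := hg.2
    refine ⟨M24.mul_mem (M24.mul_mem hu g.2) (M24.inv_mem hu), fun i hi => ?_⟩
    simp only [List.mem_cons, List.not_mem_nil, or_false] at hi
    rcases hi with rfl | rfl
    · rw [Equiv.Perm.mul_apply, Equiv.Perm.mul_apply, hinv0, hg2, h.2]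
    · rw [Equiv.Perm.mul_apply, Equiv.Perm.mul_apply, hinv, hg1, h.1]
  · intro hg
    have h1 := hg.2 23 (by simp)
    have h0 := hg.2 0 (by simp)
    rw [Equiv.Perm.mul_apply, Equiv.Perm.mul_apply, hinv, ← h.1] at h1
    rw [Equiv.Perm.mul_apply, Equiv.Perm.mul_apply, hinv0, ← h.2] at h0
    exact ⟨u.injective h1, u.injective h0⟩

end Cfsg.Agent.Lib.Helper9
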