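import Mathlib
import Cfsg.Prelude.Def_LieExceptional

/-! ZASS ladder, rung MOEB (helper73's ladder for S0731/S0742): a finite-field lemma. -/

namespace Cfsg.Agent.Lib.Helper9.Zass

theorem ringChar_ne_two {K : Type*} [Field K] (h2 : (2 : K) ≠ 0) : ringChar K ≠ 2 := by
  intro h
  apply h2
  have := ringChar.Nat.cast_ringChar (R := K)
  rw [h] at this
  exact_mod_cast this

theorem nsq_mul_nsq {K : Type*} [Field K] [Finite K] {a b : K}
    (ha : ¬ IsSquare a) (hb : ¬ IsSquare b) : IsSquare (a * b) := by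
  classical
  have := Fintype.ofFinite K
  have ha0 : a ≠ 0 := by rintro rfl; exact ha (IsSquare.zero)
  have hb0 : b ≠ 0 := by rintro rfl; exact hb (IsSquare.zero)
  rw [← quadraticChar_neg_one_iff_not_isSquare] at ha hb
  rw [← quadraticChar_one_iff_isSquare (mul_ne_zero ha0 hb0), map_mul, ha, hb]
  norm_num

theorem sq_mul_nsq {K : Type*} [Field K] {a b : K} (ha0 : a ≠ 0)
    (ha : IsSquare a) (hb : ¬ IsSquare b) : ¬ IsSquare (a * b) := by
  intro h
  apply hb
  have : b = (a * b) / a := by field_simp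
  rw [this]
  exact h.div ha

theorem exists_sq_add_nsq {K : Type*} [Field K] [Finite K] (h2 : (2 : K) ≠ 0) {c : K}
    (hc0 : c ≠ 0) (hc : IsSquare c) : ∃ x : K, x ≠ 0 ∧ IsSquare x ∧ ¬ IsSquare (x + c) := by
  classical
  have := Fintype.ofFinite K
  obtain ⟨n, hn⟩ := FiniteField.exists_nonsquare (F := K) (ringChar_ne_two h2)
  obtain ⟨a, b, hab⟩ : ∃ a b : K, a ^ 2 + b ^ 2 = n := by
    let f : Polynomial K := Polynomial.X ^ 2
    let g : Polynomial K := Polynomial.X ^ 2 - Polynomial.C n
    obtain ⟨a, b, hab⟩ : ∃ a b, f.eval a + g.eval b = 0 :=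
      FiniteField.exists_root_sum_quadratic (f := f) (g := g) (Polynomial.degree_X_pow 2)
        (Polynomial.degree_X_pow_sub_C (by decide) _)
        (FiniteField.odd_card_of_char_ne_two (ringChar_ne_two h2))
    refine ⟨a, b, ?_⟩
    rw [← sub_eq_zero]
    simpa only [f, g, Polynomial.eval_C, Polynomial.eval_X, Polynomial.eval_pow,
      Polynomial.eval_sub, ← add_sub_assoc] using hab
  have ha0 : a ≠ 0 := by
    rintro rfl
    apply hn
    rw [← hab]
    exact ⟨b, by ring⟩
  have hb0 : b ≠ 0 := by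
    rintro rfl
    apply hn
    rw [← hab]
    exact ⟨a, by ring⟩
  have hsq : IsSquare (c / b ^ 2) := hc.div ⟨b, by ring⟩
  refine ⟨a ^ 2 * c / b ^ 2, ?_, ?_, ?_⟩
  · exact div_ne_zero (mul_ne_zero (pow_ne_zero _ ha0) hc0) (pow_ne_zero _ hb0)
  · have : a ^ 2 * c / b ^ 2 = a ^ 2 * (c / b ^ 2) := by ring
    rw [this]
    exact IsSquare.mul ⟨a, by ring⟩ hsq
  · have : a ^ 2 * c / b ^ 2 + c = (c / b ^ 2) * n := by
      rw [← hab]; field_simp
    rw [this]
    exact sq_mul_nsq (div_ne_zero hc0 (pow_ne_zero _ hb0)) hsq hn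

theorem moeb {K : Type*} [Field K] [Finite K] (h2 : (2 : K) ≠ 0) (W : K → K)
    (W1 : ∀ x, x ≠ 0 → W x ≠ 0) (W2 : ∀ x, x ≠ 0 → W (W x) = x)
    (W3 : ∀ s x, s ≠ 0 → IsSquare s → x ≠ 0 → W (s * x) = s⁻¹ * W x) (s c : K)
    (hs0 : s ≠ 0) (hs : IsSquare s) (hc : c ≠ 0) (hWc : W c = - W 1)
    (hiff : ∀ x, x ≠ 0 → (W x + 1 = 0 ↔ s * x + c = 0))
    (heq : ∀ x, x ≠ 0 → W x + 1 ≠ 0 → W (W x + 1) = W 1 + W (s * x + c)) :
    ∃ k : K, k ≠ 0 ∧ IsSquare (-k) ∧ ∀ x, x ≠ 0 → W x = k / x := by
  obtain ⟨ν, hν⟩ := FiniteField.exists_nonsquare (F := K) (ringChar_ne_two h2)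
  have hν0 : ν ≠ 0 := by rintro rfl; exact hν IsSquare.zero
  set c1 := W 1 with hc1
  set c2 := ν * W ν with hc2
  have hc10 : c1 ≠ 0 := W1 1 one_ne_zero
  have hc20 : c2 ≠ 0 := mul_ne_zero hν0 (W1 ν hν0)
  have Wsq : ∀ x, x ≠ 0 → IsSquare x → W x = c1 / x := by
    intro x hx0 hx
    have := W3 x 1 hx0 hx one_ne_zero
    rw [mul_one] at this
    rw [this, hc1]; field_simp
  have Wnsq : ∀ x, ¬ IsSquare x → W x = c2 / x := by
    intro x hx
    have hx0 : x ≠ 0 := by rintro rfl; exact hx IsSquare.zero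
    have h1 : IsSquare (x / ν) := by
      have : x / ν = (x * ν) / (ν * ν) := by field_simp
      rw [this]
      exact (nsq_mul_nsq hx hν).div ⟨ν, rfl⟩
    have := W3 (x / ν) ν (div_ne_zero hx0 hν0) h1 hν0
    rw [div_mul_cancel₀ _ hν0] at this
    rw [this, hc2]; field_simp
  -- `c = - s * W (-1)`
  have hcs : c = - s * W (-1) := by
    have hx0 : -c / s ≠ 0 := div_ne_zero (neg_ne_zero.mpr hc) hs0
    have h1 : W (-c / s) + 1 = 0 := (hiff _ hx0).mpr (by field_simp; ring)
    have h3 : W (-c / s) = -1 := by linear_combination h1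
    have h4 := W2 _ hx0
    rw [h3] at h4
    rw [h4]; field_simp
  have hsinv : IsSquare (1 / s) := (IsSquare.one).div hs
  by_cases hq : IsSquare c1
  · -- case (ii)
    have Wpres : ∀ x, x ≠ 0 → IsSquare x → IsSquare (W x) := by
      intro x hx0 hx
      rw [Wsq x hx0 hx]; exact hq.div hx
    have hWν : ¬ IsSquare (W ν) := by
      intro h
      have := Wpres _ (W1 ν hν0) h
      rw [W2 ν hν0] at this
      exact hν this
    have hq2 : IsSquare c2 := nsq_mul_nsq hν hWν
    by_cases hm : IsSquare (-1 : K)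
    · have hW1 : W (-1) = - c1 := by
        rw [Wsq (-1) (by simp) hm]; field_simp
      have hcc : c = s * c1 := by rw [hcs, hW1]; ring
      have hcsq : IsSquare c := by rw [hcc]; exact hs.mul hq
      have h5 : c1 / c = - c1 := by rw [← Wsq c hc hcsq]; exact hWc
      have hcm : c = -1 := by
        field_simp at h5
        linear_combination h5
      have hsc : s * c1 = -1 := by rw [← hcc]; exact hcm
      obtain ⟨x, hx0, hxs, hxn⟩ := exists_sq_add_nsq h2 hc10 hq
      have hxc0 : x + c1 ≠ 0 := by intro h; rw [h] at hxn; exact hxn IsSquare.zero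
      have hWx : W x = c1 / x := Wsq x hx0 hxs
      have e1 : W x + 1 = (1 / x) * (x + c1) := by rw [hWx]; field_simp; ring
      have n1 : ¬ IsSquare (W x + 1) := by
        rw [e1]
        exact sq_mul_nsq (div_ne_zero one_ne_zero hx0) ((IsSquare.one).div hxs) hxn
      have n10 : W x + 1 ≠ 0 := by intro h; rw [h] at n1; exact n1 IsSquare.zero
      have e2 : s * x + c = s * (x + c1) := by rw [hcc]; ring
      have n2 : ¬ IsSquare (s * x + c) := by
        rw [e2]; exact sq_mul_nsq hs0 hs hxn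
      have h6 := heq x hx0 n10
      rw [Wnsq _ n1, Wnsq _ n2, e1, e2] at h6
      have hcc' : c2 = c1 := by
        have hs' : s = -1 / c1 := by field_simp; linear_combination hsc
        rw [hs'] at h6
        field_simp at h6
        have h7 : (c2 - c1) * (x + c1) = 0 := by linear_combination h6
        rcases mul_eq_zero.mp h7 with h | h
        · linear_combination h
        · exact absurd h hxc0
      refine ⟨c1, hc10, ?_, ?_⟩
      · have : - c1 = 1 / s := by field_simp; linear_combination -hsc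
        rw [this]; exact hsinv
      · intro y hy0
        by_cases hy : IsSquare y
        · exact Wsq y hy0 hy
        · rw [Wnsq y hy, hcc']
    · exfalso
      have hW1 : W (-1) = - c2 := by
        rw [Wnsq (-1) hm]; field_simp
      have hcc : c = s * c2 := by rw [hcs, hW1]; ring
      have hcsq : IsSquare c := by rw [hcc]; exact hs.mul hq2
      have h5 : c1 / c = - c1 := by rw [← Wsq c hc hcsq]; exact hWc
      have hcm : c = -1 := by
        field_simp at h5
        linear_combination h5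
      rw [hcm] at hcsq
      exact hm hcsq
  · -- case (i)
    have h1 : c2 / c1 = 1 := by
      rw [← Wnsq c1 hq, hc1]; exact W2 1 one_ne_zero
    have hcc' : c2 = c1 := by field_simp at h1; exact h1
    have Wall : ∀ y, y ≠ 0 → W y = c1 / y := by
      intro y hy0
      by_cases hy : IsSquare y
      · exact Wsq y hy0 hy
      · rw [Wnsq y hy, hcc']
    have h5 : c1 / c = - c1 := by rw [← Wall c hc]; exact hWc
    have hcm : c = -1 := by
      field_simp at h5
      linear_combination h5
    have hW1 : W (-1) = - c1 := by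
      rw [Wall (-1) (by simp)]; field_simp
    have hsc : s * c1 = -1 := by
      rw [hW1, hcm] at hcs
      linear_combination -hcs
    refine ⟨c1, hc10, ?_, Wall⟩
    have : - c1 = 1 / s := by field_simp; linear_combination -hsc
    rw [this]; exact hsinv

end Cfsg.Agent.Lib.Helper9.Zass
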