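import Mathlib
import Cfsg.Prelude.Def_LieExceptional
import Cfsg.Agent.Lib.Helper9.ZassMoeb

/-! ZASS ladder, rung PERM (helper73's ladder for S0731/S0742). -/

namespace Cfsg.Agent.Lib.Helper9.Zass

theorem perm_main {K : Type*} [Field K] [Finite K] (h2 : (2 : K) ≠ 0)
    (Γ : Subgroup (Equiv.Perm (Option K)))
    (hU : ∀ b : K, ∃ γ ∈ Γ, γ none = none ∧ ∀ x, γ (some x) = some (1 * x + b))
    (hD : ∀ s : K, s ≠ 0 → IsSquare s → ∃ γ ∈ Γ, γ none = none ∧ ∀ x, γ (some x) = some (s * x))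
    (hB : ∀ γ ∈ Γ, γ none = none →
      ∃ s b : K, s ≠ 0 ∧ IsSquare s ∧ ∀ x, γ (some x) = some (s * x + b))
    (w : Equiv.Perm (Option K)) (hw : w ∈ Γ) (hw0 : w none = some 0) (hw1 : w (some 0) = none)
    (hww : w * w = 1)
    (hinv : ∀ γ ∈ Γ, γ none = none → γ (some 0) = some 0 → w * γ * w⁻¹ = γ⁻¹) :
    ∃ w' ∈ Γ, w' none = some 0 ∧ w' (some 0) = none ∧
      ∀ x, x ≠ 0 → w' (some x) = some (-x⁻¹) := by
  have hwwx : ∀ y, w (w y) = y := fun y => by
    have := congrArg (fun f : Equiv.Perm (Option K) => f y) hww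
    simpa using this
  set W : K → K := fun x => (w (some x)).getD 0 with hW
  have hWs : ∀ x, x ≠ 0 → w (some x) = some (W x) := by
    intro x hx
    cases h : w (some x) with
    | none =>
      exfalso
      apply hx
      have : w (some x) = w (some 0) := by rw [h, hw1]
      simpa using w.injective this
    | some y => simp [hW, h]
  have W1 : ∀ x, x ≠ 0 → W x ≠ 0 := by
    intro x hx h0
    have h := hWs x hx
    rw [h0, ← hw0] at h
    simpa using w.injective h
  have W2 : ∀ x, x ≠ 0 → W (W x) = x := by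
    intro x hx
    have h := hWs (W x) (W1 x hx)
    rw [← hWs x hx, hwwx] at h
    simpa using h.symm
  have W3 : ∀ s x, s ≠ 0 → IsSquare s → x ≠ 0 → W (s * x) = s⁻¹ * W x := by
    intro s x hs0 hs hx
    obtain ⟨D, hDΓ, hDn, hDs⟩ := hD s hs0 hs
    have h := hinv D hDΓ hDn (by rw [hDs, mul_zero])
    have h' : D * w * D = w := by
      have : w * D = D⁻¹ * w := by
        rw [← h]; group
      calc D * w * D = D * (w * D) := by group
        _ = D * (D⁻¹ * w) := by rw [this]
        _ = w := by group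
    have h3 := congrArg (fun f : Equiv.Perm (Option K) => f (some x)) h'
    simp only [Equiv.Perm.mul_apply] at h3
    rw [hDs, hWs _ (mul_ne_zero hs0 hx), hDs, hWs x hx] at h3
    have h4 : s * W (s * x) = W x := by simpa using h3
    rw [← h4]; field_simp
  obtain ⟨T1, hT1Γ, hT1n, hT1s⟩ := hU 1
  obtain ⟨Tb, hTbΓ, hTbn, hTbs⟩ := hU (W 1)
  set γ : Equiv.Perm (Option K) := (Tb * w)⁻¹ * (w * T1 * w) with hγ
  have hγΓ : γ ∈ Γ := Γ.mul_mem (Γ.inv_mem (Γ.mul_mem hTbΓ hw)) (Γ.mul_mem (Γ.mul_mem hw hT1Γ) hw)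
  have hkey : ∀ y, w (T1 (w y)) = Tb (w (γ y)) := by
    intro y
    have : w * T1 * w = Tb * w * γ := by rw [hγ]; group
    have h3 := congrArg (fun f : Equiv.Perm (Option K) => f y) this
    simpa only [Equiv.Perm.mul_apply] using h3
  have hγn : γ none = none := by
    have h := hkey none
    rw [hw0, hT1s, mul_zero, zero_add, hWs 1 one_ne_zero] at h
    have h5 : Tb (w none) = some (W 1) := by rw [hw0, hTbs]; simp
    rw [← h5] at h
    exact (w.injective (Tb.injective h)).symm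
  obtain ⟨s, c, hs0, hs, hγs⟩ := hB γ hγΓ hγn
  have h0 := hkey (some 0)
  rw [hw1, hT1n, hw0, hγs, mul_zero, zero_add] at h0
  have hc : c ≠ 0 := by
    rintro rfl
    rw [hw1, hTbn] at h0
    simp at h0
  have hWc : W c = - W 1 := by
    rw [hWs c hc, hTbs] at h0
    have : (0 : K) = 1 * W c + W 1 := by simpa using h0
    linear_combination -this
  have hx : ∀ x, x ≠ 0 → w (some (W x + 1)) = Tb (w (some (s * x + c))) := by
    intro x hx
    have h := hkey (some x)
    rw [hWs x hx, hT1s, hγs, one_mul] at h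
    exact h
  have hiff : ∀ x, x ≠ 0 → (W x + 1 = 0 ↔ s * x + c = 0) := by
    intro x hx0
    have h := hx x hx0
    constructor
    · intro h1
      rw [h1, hw1, ← hTbn] at h
      have h6 := Tb.injective h
      rw [← hw1] at h6
      simpa using (w.injective h6).symm
    · intro h1
      rw [h1, hw1, hTbn, ← hw1] at h
      simpa using w.injective h
  have heq : ∀ x, x ≠ 0 → W x + 1 ≠ 0 → W (W x + 1) = W 1 + W (s * x + c) := by
    intro x hx0 h1
    have h := hx x hx0
    have h7 : s * x + c ≠ 0 := fun h8 => h1 ((hiff x hx0).mpr h8)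
    rw [hWs _ h1, hWs _ h7, hTbs] at h
    have : W (W x + 1) = 1 * W (s * x + c) + W 1 := by simpa using h
    rw [this]; ring
  obtain ⟨k, hk0, hk, hWk⟩ := moeb h2 W W1 W2 W3 s c hs0 hs hc hWc hiff heq
  have hk' : IsSquare (-1 / k) := by
    have : -1 / k = 1 / (-k) := by field_simp
    rw [this]; exact (IsSquare.one).div hk
  obtain ⟨D, hDΓ, hDn, hDs⟩ := hD (-1 / k) (div_ne_zero (by simp) hk0) hk'
  refine ⟨D * w, Γ.mul_mem hDΓ hw, ?_, ?_, ?_⟩
  · rw [Equiv.Perm.mul_apply, hw0, hDs, mul_zero]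
  · rw [Equiv.Perm.mul_apply, hw1, hDn]
  · intro x hx0
    rw [Equiv.Perm.mul_apply, hWs x hx0, hDs, hWk x hx0]
    congr 1
    field_simp

end Cfsg.Agent.Lib.Helper9.Zass
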