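import Mathlib

/-!
# Ladder BR, rung NPOS: a perfect group with a Sylow subgroup of order `p` has more than one
Sylow `p`-subgroup
-/

set_option autoImplicit false

namespace Cfsg.Agent.Lib.Helper9.BR

open scoped commutatorElement

theorem not_normalizer_le_centralizer {G : Type*} [Group G] [Finite G] (hperf : commutator G = ⊤)
    (p : ℕ) [Fact p.Prime] (P : Sylow p G) (hP : Nat.card P = p) :
    ¬ (Subgroup.normalizer ((P : Subgroup G) : Set G)
      ≤ Subgroup.centralizer ((P : Subgroup G) : Set G)) := by
  intro h
  have hc := MonoidHom.ker_transferSylow_isComplement' P h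
  have hk : (MonoidHom.transferSylow P h).ker = ⊤ := by
    rw [eq_top_iff, ← hperf, commutator_def, Subgroup.commutator_le]
    intro a _ b _
    rw [MonoidHom.mem_ker, map_commutatorElement, commutatorElement_eq_one_iff_mul_comm]
    generalize (MonoidHom.transferSylow P h) a = x
    generalize (MonoidHom.transferSylow P h) b = y
    exact Subtype.ext (h (Subgroup.le_normalizer y.2) x x.2)
  rw [hk, Subgroup.isComplement'_top_left] at hc
  have : Nat.card (P : Subgroup G) = 1 := by rw [hc]; exact Subgroup.card_bot
  have hp := (Fact.out : p.Prime).one_lt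
  have hP' : Nat.card (P : Subgroup G) = p := hP
  omega

theorem card_sylow_ne_one {G : Type*} [Group G] [Finite G] (hperf : commutator G = ⊤) (p : ℕ)
    [Fact p.Prime] (P : Sylow p G) (hP : Nat.card P = p) : Nat.card (Sylow p G) ≠ 1 := by
  intro h1
  apply not_normalizer_le_centralizer hperf p P hP
  rw [Sylow.card_eq_index_normalizer P, Subgroup.index_eq_one] at h1
  have hn : (P : Subgroup G).Normal := Subgroup.normalizer_eq_top_iff.mp h1
  have hcyc : IsCyclic (P : Subgroup G) := isCyclic_of_prime_card hP
  have hC : Subgroup.centralizer ((P : Subgroup G) : Set G) = ⊤ := by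
    rw [eq_top_iff, ← hperf, commutator_def, Subgroup.commutator_le]
    intro a _ b _
    have h2 : (MulAut.conjNormal ⁅a, b⁆ : MulAut (P : Subgroup G)) = 1 := by
      apply (IsCyclic.mulAutMulEquiv (P : Subgroup G)).injective
      rw [map_commutatorElement, map_commutatorElement, map_one,
        commutatorElement_eq_one_iff_mul_comm, mul_comm]
    rw [Subgroup.mem_centralizer_iff]
    intro x hx
    have h3 := congrArg (fun f : MulAut (P : Subgroup G) => ((f ⟨x, hx⟩ : (P : Subgroup G)) : G)) h2
    simp only [MulAut.conjNormal_apply, MulAut.one_apply] at h3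
    generalize ⁅a, b⁆ = c at h3
    calc x * c = c * x * c⁻¹ * c := by rw [h3]
      _ = c * x := by group
  rw [hC]
  exact le_top

end Cfsg.Agent.Lib.Helper9.BR
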