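import Cfsg.Agent.Lib.Helper80.BRDefs
import Cfsg.Agent.S4441
import Cfsg.Agent.Lib.Helper20.M11G7
import Cfsg.Agent.Lib.Helper78.DefectZero
import Cfsg.Agent.Lib.Helper78.AFT
import Cfsg.Agent.Lib.Helper81.BlockOrth
import Cfsg.Agent.Lib.Helper96.SylowAct
import Cfsg.Agent.Lib.Helper9.BRNPOS

/-!
# Ladder BR, rung DATA
-/

set_option autoImplicit false
set_option linter.style.haveILetI false

namespace Cfsg.Agent.Lib.Helper9.BR

open Cfsg Cfsg.Agent.Lib.Helper80.BR Cfsg.Agent.Lib.Helper20 Cfsg.Agent.Lib.Helper82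
open scoped ComplexConjugate

theorem lin_triv {G : Type*} [Group G] [Finite G] (hperf : commutator G = ⊤)
    (χ : IrrCharacter G) (h : charDegree (χ : G → ℂ) = 1) : χ = trivIrr G := by
  haveI := Fintype.ofFinite G
  apply Subtype.ext
  funext g
  have := Cfsg.Agent.Lib.Helper78.commutator_le_ker_of_charDegree_eq_one χ h g
    (by rw [hperf]; trivial)
  rw [this, (Cfsg.Agent.Lib.Helper78.charDegree_eq_one_iff χ).1 h]
  rfl

/-- `S4441` in `Finset` form. -/
theorem data0 {G : Type*} [Group G] [Fintype G] (p : ℕ) [Fact p.Prime] (M : Ideal AlgInt)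
    (hM : IsPModular p M) (hodd : p ≠ 2) (P : Sylow p G) (hP : Nat.card P = p) :
    ∃ (X Y : Finset (IrrCharacter G)) (s : IrrCharacter G → ℤ) (ε : ℤ),
      (∀ χ, χ ∈ principalBlock M G ↔ χ ∈ X ∨ χ ∈ Y) ∧ Disjoint X Y ∧
      X.card = (Subgroup.centralizer ((P : Subgroup G) : Set G)).relIndex
        (Subgroup.normalizer ((P : Subgroup G) : Set G)) ∧
      Y.card = (p - 1) / X.card ∧
      (∀ χ ∈ X, s χ = 1 ∨ s χ = -1) ∧ (ε = 1 ∨ ε = -1) ∧
      (∀ χ ∈ X, (charDegree (χ : G → ℂ) : ℤ) ≡ s χ [ZMOD (p : ℤ)]) ∧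
      (∀ θ ∈ Y, (charDegree (θ : G → ℂ) : ℤ) ≡ ε * (X.card : ℤ) [ZMOD (p : ℤ)]) ∧
      (∀ χ ∈ X, ∀ x ∈ (P : Subgroup G), x ≠ 1 →
        ∀ y ∈ Subgroup.centralizer ((P : Subgroup G) : Set G), ¬ p ∣ orderOf y →
        (χ : G → ℂ) (x * y) = (s χ : ℂ)) ∧
      (∀ θ ∈ Y, ∀ θ' ∈ Y, ∀ g : G, ¬ p ∣ orderOf g → (θ : G → ℂ) g = (θ' : G → ℂ) g) ∧
      (∀ θ ∈ Y, ∀ g : G, ¬ p ∣ orderOf g →
        (ε : ℂ) * (θ : G → ℂ) g = ∑ χ ∈ X, (s χ : ℂ) * (χ : G → ℂ) g) := by
  classical
  haveI : Finite (IrrCharacter G) := Cfsg.Agent.Lib.Helper20.finite_irrCharacter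
  haveI := Fintype.ofFinite (IrrCharacter G)
  obtain ⟨X, Y, hB, hdisj, hcX, hcY, s, ε, hX, hε, hY1, hY2, hY3⟩ :=
    Cfsg.Agent.S4441.result p M hM hodd P hP _ rfl
  have hcX' : X.toFinset.card = (Subgroup.centralizer ((P : Subgroup G) : Set G)).relIndex
        (Subgroup.normalizer ((P : Subgroup G) : Set G)) := by
    rw [Set.toFinset_card, ← Nat.card_eq_fintype_card]; exact hcX
  refine ⟨X.toFinset, Y.toFinset, s, ε, ?_, ?_, hcX', ?_, ?_, hε, ?_, ?_, ?_, ?_, ?_⟩
  · intro χ
    rw [hB]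
    simp
  · rw [Set.disjoint_toFinset]; exact hdisj
  · rw [hcX', Set.toFinset_card, ← Nat.card_eq_fintype_card]; exact hcY
  · intro i hi; exact (hX i (Set.mem_toFinset.1 hi)).1
  · intro i hi; exact (hX i (Set.mem_toFinset.1 hi)).2.1
  · intro i hi; rw [hcX']; exact hY1 i (Set.mem_toFinset.1 hi)
  · intro χ hχ
    exact (hX χ (Set.mem_toFinset.1 hχ)).2.2
  · intro i hi j hj
    exact hY2 i (Set.mem_toFinset.1 hi) j (Set.mem_toFinset.1 hj)
  · intro i hi g hg
    have h := hY3 i (Set.mem_toFinset.1 hi) g hg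
    rw [finsum_mem_eq_finite_toFinset_sum _ (Set.toFinite X)] at h
    have h2 : (Set.toFinite X).toFinset = X.toFinset := by
      ext; simp
    rw [h2] at h
    exact h

theorem out_aux {G : Type*} [Group G] [Fintype G] (p : ℕ) [Fact p.Prime] (M : Ideal AlgInt)
    (hM : IsPModular p M) (P : Sylow p G) (hP : Nat.card P = p)
    (hreg : ∀ y ∈ Subgroup.centralizer ((P : Subgroup G) : Set G), ¬ p ∣ orderOf y → y = 1)
    (ψ : IrrCharacter G) (hψ : ψ ∉ principalBlock M G) :
    p ∣ charDegree (ψ : G → ℂ) ∧ ∀ g : G, p ∣ orderOf g → (ψ : G → ℂ) g = 0 := by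
  have hp : p.Prime := Fact.out
  have h1 : p ∣ charDegree (ψ : G → ℂ) := by
    by_contra hc
    exact hψ (M11.mem_principalBlock_of_not_dvd p M hM P hreg ψ hc)
  refine ⟨h1, ?_⟩
  obtain ⟨m, hm⟩ := isIrr_charDegree_dvd_card ψ.2
  have hpm : ¬ p ∣ m := by
    intro hd
    have h2 : p ^ 2 ∣ Nat.card G := by
      rw [hm, pow_two]
      exact Nat.mul_dvd_mul h1 hd
    have h3 := P.card_eq_multiplicity
    have hP' : Nat.card (P : Subgroup G) = p := hP
    rw [hP'] at h3
    have h4 : (Nat.card G).factorization p = 1 := by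
      have : p ^ 1 = p ^ (Nat.card G).factorization p := by rw [pow_one]; exact h3
      exact (Nat.pow_right_injective hp.two_le this).symm
    have h5 := (hp.pow_dvd_iff_le_factorization Nat.card_pos.ne').1 h2
    omega
  intro g hg
  exact Cfsg.Agent.Lib.Helper78.vanish_of_defect_zero hp ψ hm hpm hg

theorem data {G : Type*} [Group G] [Finite G] (hperf : commutator G = ⊤) (p : ℕ) [Fact p.Prime]
    (P : Sylow p G) (hP : Nat.card P = p) :
    ∃ (X Y : Finset (IrrCharacter G)) (s : IrrCharacter G → ℤ) (ε : ℤ),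
      Dat p (P : Subgroup G) X Y s ε := by
  classical
  haveI := Fintype.ofFinite G
  have hp : p.Prime := Fact.out
  have hcyc : IsCyclic (P : Subgroup G) := isCyclic_of_prime_card hP
  have hP' : Nat.card (P : Subgroup G) = p := hP
  -- the index `e`
  have he_dvd : (Subgroup.centralizer ((P : Subgroup G) : Set G)).relIndex
      (Subgroup.normalizer ((P : Subgroup G) : Set G)) ∣ p - 1 := by
    have := Cfsg.Agent.Lib.Helper96.relIndex_centralizer_normalizer_dvd'
      (P : Subgroup G) hcyc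
    rwa [hP', Nat.totient_prime hp] at this
  have he1 : (Subgroup.centralizer ((P : Subgroup G) : Set G)).relIndex
      (Subgroup.normalizer ((P : Subgroup G) : Set G)) ≠ 1 := by
    intro h
    exact not_normalizer_le_centralizer hperf p P hP (Subgroup.relIndex_eq_one.1 h)
  have hp1pos : 0 < p - 1 := Nat.sub_pos_of_lt hp.one_lt
  have he_pos : 0 < (Subgroup.centralizer ((P : Subgroup G) : Set G)).relIndex
      (Subgroup.normalizer ((P : Subgroup G) : Set G)) := Nat.pos_of_dvd_of_pos he_dvd hp1pos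
  have he_le := Nat.le_of_dvd hp1pos he_dvd
  have hodd : p ≠ 2 := by omega
  obtain ⟨M, hM⟩ := Cfsg.Agent.Lib.Helper78.exists_isPModular hp
  obtain ⟨X, Y, s, ε, hB, hdisj, hcX, hcY, hs, hε, hcongX, hcongY, hvalX, heqY, hrel⟩ :=
    data0 p M hM hodd P hP
  rw [← hcX] at he_dvd he1 he_pos he_le
  have hcY' : Y.card * X.card = p - 1 := by
    rw [hcY]; exact Nat.div_mul_cancel he_dvd
  have hp1 : ¬ p ∣ orderOf (1 : G) := by
    rw [orderOf_one]; exact hp.one_lt.ne' ∘ Nat.dvd_one.1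
  have hdeg : ∀ χ : IrrCharacter G, (χ : G → ℂ) 1 = (charDegree (χ : G → ℂ) : ℂ) :=
    fun χ => isChar_one_eq (isIrr_isChar χ.2)
  have hout : ∀ X' Y' : Finset (IrrCharacter G), (∀ χ, χ ∈ X ∨ χ ∈ Y → χ ∈ X' ∨ χ ∈ Y') →
      (∀ y ∈ Subgroup.centralizer ((P : Subgroup G) : Set G), ¬ p ∣ orderOf y → y = 1) →
      ∀ ψ : IrrCharacter G, ψ ∉ X' → ψ ∉ Y' →
        p ∣ charDegree (ψ : G → ℂ) ∧ ∀ g : G, p ∣ orderOf g → (ψ : G → ℂ) g = 0 := by
    intro X' Y' hXY hreg ψ h1 h2
    apply out_aux p M hM P hP hreg ψ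
    intro h3
    rcases hXY ψ ((hB ψ).1 h3) with h4 | h4
    · exact h1 h4
    · exact h2 h4
  have htrivB : trivIrr G ∈ X ∨ trivIrr G ∈ Y :=
    (hB _).1 (Cfsg.Agent.Lib.Helper81.mem_blockOf_self hM (trivIrr G))
  have hYne : Y.Nonempty := by
    rw [← Finset.card_pos]
    by_contra hc
    have : Y.card = 0 := by omega
    rw [this] at hcY'
    omega
  rcases htrivB with htX | htY
  · -- the generic case
    refine ⟨X, Y, s, ε, ⟨hdisj, hcX, hcY', htX, hs, hε, hcongX, hcongY, hvalX, heqY, hrel, ?_,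
      hout X Y (fun _ h => h)⟩⟩
    intro x hx hx1
    obtain ⟨θ₀, hθ₀⟩ := hYne
    have hxo : orderOf x = p := by
      have h1 : orderOf x ∣ p := by
        have := orderOf_dvd_natCard (⟨x, hx⟩ : (P : Subgroup G))
        rwa [hP', Subgroup.orderOf_mk] at this
      rcases (Nat.dvd_prime hp).1 h1 with h2 | h2
      · exact absurd (orderOf_eq_one_iff.1 h2) hx1
      · exact h2
    have horth := Cfsg.Agent.Lib.Helper81.block_orth hM (principalBlock M G) ⟨trivIrr G, rfl⟩
      (g := x) (h := 1) (x := x) (y := 1)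
      ⟨1, mul_one x, Commute.one_right x, ⟨1, by rw [hxo, pow_one]⟩, hp1⟩
      (Cfsg.Agent.Lib.Helper81.isPPart_one_of_regular hp1)
      (by rw [isConj_one_left]; exact hx1)
    have hBset : principalBlock M G = ↑(X ∪ Y) := by
      ext χ
      rw [hB]
      simp
    rw [hBset, finsum_mem_coe_finset, Finset.sum_union hdisj] at horth
    have h1 : ∑ χ ∈ X, (χ : G → ℂ) x * conj ((χ : G → ℂ) 1) = (ε : ℂ) * (θ₀ : G → ℂ) 1 := by
      rw [hrel θ₀ hθ₀ 1 hp1]
      refine Finset.sum_congr rfl fun χ hχ => ?_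
      have := hvalX χ hχ x hx hx1 1 (one_mem _) hp1
      rw [mul_one] at this
      rw [this, hdeg]
      simp
    have h2 : ∑ θ ∈ Y, (θ : G → ℂ) x * conj ((θ : G → ℂ) 1)
        = (∑ θ ∈ Y, (θ : G → ℂ) x) * (θ₀ : G → ℂ) 1 := by
      rw [Finset.sum_mul]
      refine Finset.sum_congr rfl fun θ hθ => ?_
      rw [heqY θ hθ θ₀ hθ₀ 1 hp1, hdeg]
      simp
    rw [h1, h2, ← add_mul] at horth
    have h3 : (θ₀ : G → ℂ) 1 ≠ 0 := by
      rw [hdeg]
      exact_mod_cast (isIrr_charDegree_pos θ₀.2).ne'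
    have h4 := (mul_eq_zero.1 horth).resolve_right h3
    linear_combination h4
  · -- the trivial character is exceptional: swap
    have hYall : ∀ θ ∈ Y, θ = trivIrr G := by
      intro θ hθ
      apply lin_triv hperf
      have h1 := heqY θ hθ _ htY 1 hp1
      rw [hdeg, trivIrr_apply] at h1
      exact_mod_cast h1
    have hY1 : Y = {trivIrr G} := by
      ext θ
      rw [Finset.mem_singleton]
      exact ⟨hYall θ, fun h => h ▸ htY⟩
    have hYc : Y.card = 1 := by rw [hY1]; exact Finset.card_singleton _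
    have hXc : X.card = p - 1 := by rw [hYc, one_mul] at hcY'; exact hcY'
    have hdt : charDegree ((trivIrr G : IrrCharacter G) : G → ℂ) = 1 := by
      have := hdeg (trivIrr G)
      rw [trivIrr_apply] at this
      exact_mod_cast this.symm
    have hεm : ε = -1 := by
      rcases hε with h | h
      · exfalso
        have h1 := hcongY _ htY
        rw [hdt, h, hXc, Nat.cast_sub hp.one_lt.le] at h1
        have h2 : (p : ℤ) ∣ (1 * ((p : ℤ) - ((1 : ℕ) : ℤ))) - ((1 : ℕ) : ℤ) := h1.dvd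
        have h3 : (p : ℤ) ∣ 2 := by
          have : (2 : ℤ) = (p : ℤ) - ((1 * ((p : ℤ) - ((1 : ℕ) : ℤ))) - ((1 : ℕ) : ℤ)) := by
            push_cast; ring
          rw [this]
          exact dvd_sub dvd_rfl h2
        have h4 : p ∣ 2 := by exact_mod_cast h3
        have := Nat.le_of_dvd (by norm_num) h4
        have := hp.two_le
        omega
      · exact h
    have hXne : X.Nonempty := by
      rw [← Finset.card_pos]; omega
    obtain ⟨χ₀, hχ₀⟩ := hXne
    have htX : trivIrr G ∉ X := fun h => (Finset.disjoint_left.1 hdisj h) htY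
    have hne : χ₀ ≠ trivIrr G := fun h => htX (h ▸ hχ₀)
    have hs' : ∀ χ ∈ X, Function.update s (trivIrr G) 1 χ = s χ := by
      intro χ hχ
      exact Function.update_of_ne (fun h : χ = trivIrr G => htX (h ▸ hχ)) _ _
    have hst : Function.update s (trivIrr G) 1 (trivIrr G) = 1 := Function.update_self _ _ _
    have hcard' : (insert (trivIrr G) (X.erase χ₀)).card = X.card := by
      rw [Finset.card_insert_of_notMem (fun h => htX (Finset.mem_of_mem_erase h)),
        Finset.card_erase_of_mem hχ₀]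
      omega
    refine ⟨insert (trivIrr G) (X.erase χ₀), {χ₀}, Function.update s (trivIrr G) 1, - s χ₀,
      ⟨?_, ?_, ?_, Finset.mem_insert_self _ _, ?_, ?_, ?_, ?_, ?_, ?_, ?_, ?_, ?_⟩⟩
    · rw [Finset.disjoint_singleton_right, Finset.mem_insert]
      rintro (h | h)
      · exact hne h
      · exact (Finset.notMem_erase χ₀ X) h
    · rw [hcard', hcX]
    · rw [hcard', Finset.card_singleton, one_mul, hXc]
    · intro χ hχ
      rcases Finset.mem_insert.1 hχ with rfl | h
      · left; exact hst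
      · rw [hs' χ (Finset.mem_of_mem_erase h)]; exact hs χ (Finset.mem_of_mem_erase h)
    · rcases hs χ₀ hχ₀ with h | h
      · right; rw [h]
      · left; rw [h]; norm_num
    · intro χ hχ
      rcases Finset.mem_insert.1 hχ with rfl | h
      · rw [hst, hdt]; rfl
      · rw [hs' χ (Finset.mem_of_mem_erase h)]; exact hcongX χ (Finset.mem_of_mem_erase h)
    · intro θ hθ
      rw [Finset.mem_singleton] at hθ
      subst hθ
      rw [hcard', hXc, Nat.cast_sub hp.one_lt.le]
      refine (hcongX θ hχ₀).trans ?_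
      rw [Int.modEq_iff_dvd]
      exact ⟨- s θ, by push_cast; ring⟩
    · intro χ hχ x hx hx1 y hy hyp
      rcases Finset.mem_insert.1 hχ with rfl | h
      · rw [hst, trivIrr_apply]; simp
      · rw [hs' χ (Finset.mem_of_mem_erase h)]
        exact hvalX χ (Finset.mem_of_mem_erase h) x hx hx1 y hy hyp
    · intro θ hθ θ' hθ' g _
      rw [Finset.mem_singleton] at hθ hθ'
      rw [hθ, hθ']
    · intro θ hθ g hg
      rw [Finset.mem_singleton] at hθ
      subst hθ
      have h1 := hrel _ htY g hg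
      rw [hεm, trivIrr_apply, ← Finset.add_sum_erase X _ hχ₀] at h1
      rw [Finset.sum_insert (fun h => htX (Finset.mem_of_mem_erase h)), hst, trivIrr_apply,
        Finset.sum_congr rfl (fun χ hχ => by rw [hs' χ (Finset.mem_of_mem_erase hχ)])]
      push_cast at h1 ⊢
      linear_combination h1
    · intro x hx hx1
      rw [Finset.sum_singleton]
      have := hvalX χ₀ hχ₀ x hx hx1 1 (one_mem _) hp1
      rw [mul_one] at this
      rw [this]
      push_cast
      ring
    · apply hout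
      intro χ hχ
      rcases hχ with h | h
      · by_cases hc : χ = χ₀
        · right; rw [hc]; exact Finset.mem_singleton_self _
        · left; exact Finset.mem_insert_of_mem (Finset.mem_erase.2 ⟨hc, h⟩)
      · left
        rw [hYall χ h]
        exact Finset.mem_insert_self _ _

end Cfsg.Agent.Lib.Helper9.BR
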