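import Cfsg.Agent.Lib.Helper80.BRDefs
import Cfsg.Agent.Lib.Helper20.M11G45
import Cfsg.Agent.Lib.Helper20.M11G69
import Cfsg.Agent.Lib.Helper82.CharKer

/-!
# Ladder BR, rung KER
-/

set_option autoImplicit false

namespace Cfsg.Agent.Lib.Helper9.BR

open Cfsg Cfsg.Agent.Lib.Helper80.BR Cfsg.Agent.Lib.Helper20 Cfsg.Agent.Lib.Helper82

/-- a normal subgroup of order divisible by `p` contains every Sylow subgroup of order `p` -/
theorem sylow_le_of_normal_of_dvd {G : Type*} [Group G] [Finite G] (p : ℕ) [Fact p.Prime]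
    (P : Sylow p G) (hP : Nat.card P = p) (K : Subgroup G) (hK : K.Normal) (hd : p ∣ Nat.card K) :
    (P : Subgroup G) ≤ K := by
  obtain ⟨k, hk⟩ := exists_prime_orderOf_dvd_card' p hd
  have hk' : orderOf (k : G) = p := by rw [Subgroup.orderOf_coe]; exact hk
  have hpg : IsPGroup p (Subgroup.zpowers (k : G)) :=
    IsPGroup.of_card (n := 1) (by rw [Nat.card_zpowers, hk', pow_one])
  obtain ⟨Q, hQ⟩ := hpg.exists_le_sylow
  obtain ⟨g, rfl⟩ := MulAction.exists_smul_eq G P Q
  have hcard : Nat.card ((g • P : Sylow p G) : Subgroup G) = p := by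
    have h1 := (g • P : Sylow p G).card_eq_multiplicity
    have h2 := P.card_eq_multiplicity
    have hP' : Nat.card (P : Subgroup G) = p := hP
    rw [h1, ← h2, hP']
  have heq : Subgroup.zpowers (k : G) = ((g • P : Sylow p G) : Subgroup G) :=
    Subgroup.eq_of_le_of_card_ge hQ (by rw [hcard, Nat.card_zpowers, hk'])
  intro x hx
  have h1 : MulAut.conj g • x ∈ ((g • P : Sylow p G) : Subgroup G) := by
    rw [Sylow.coe_subgroup_smul]
    exact Subgroup.smul_mem_pointwise_smul x (MulAut.conj g) P hx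
  rw [← heq] at h1
  have h2 : MulAut.conj g • x ∈ K := (Subgroup.zpowers_le.mpr k.2) h1
  have h3 := hK.conj_mem _ h2 g⁻¹
  simpa [MulAut.smul_def, mul_assoc] using h3

theorem self_cent_of_deg_pred {G : Type*} [Group G] [Finite G] (p : ℕ) [Fact p.Prime]
    (P : Sylow p G) (hP : Nat.card P = p) (χ : IrrCharacter G)
    (hdeg : charDegree (χ : G → ℂ) = p - 1)
    (hval : ∀ x ∈ (P : Subgroup G), x ≠ 1 → ∀ y ∈ Subgroup.centralizer ((P : Subgroup G) : Set G),
      ¬ p ∣ orderOf y → (χ : G → ℂ) (x * y) = -1)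
    (hcore : ∀ K : Subgroup G, K.Normal → ¬ p ∣ Nat.card K → K = ⊥) :
    ∃ z : G, orderOf z = p ∧ Subgroup.centralizer ({z} : Set G) = Subgroup.zpowers z := by
  have hp : p.Prime := Fact.out
  have hχ : IsCharacter G (χ : G → ℂ) := isCharacter_of_isIrrCharacter χ.2
  have hcyc : IsCyclic (P : Subgroup G) := isCyclic_of_prime_card hP
  obtain ⟨⟨z, hzP⟩, hz⟩ := hcyc.exists_generator
  have hzP' : Subgroup.zpowers z = (P : Subgroup G) := by
    apply le_antisymm (Subgroup.zpowers_le.mpr hzP)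
    intro x hx
    obtain ⟨n, hn⟩ := Subgroup.mem_zpowers_iff.mp (hz ⟨x, hx⟩)
    exact Subgroup.mem_zpowers_iff.mpr ⟨n, by simpa using congrArg Subtype.val hn⟩
  have hzo : orderOf z = p := by
    rw [← Nat.card_zpowers, hzP']; exact hP
  have hz1 : z ≠ 1 := by
    rintro rfl
    rw [orderOf_one] at hzo
    exact hp.one_lt.ne hzo
  have hp1 : ¬ p ∣ orderOf (1 : G) := by
    rw [orderOf_one]; exact hp.one_lt.ne' ∘ Nat.dvd_one.1
  have hKbot : charKer (χ : G → ℂ) hχ = ⊥ := by
    apply hcore _ inferInstance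
    intro hd
    have h1 := sylow_le_of_normal_of_dvd p P hP _ inferInstance hd hzP
    rw [mem_charKer, isChar_one_eq hχ, hdeg] at h1
    have h2 := hval z hzP hz1 1 (one_mem _) hp1
    rw [mul_one, h1, Nat.cast_sub hp.one_lt.le] at h2
    have h3 : (p : ℂ) = 0 := by linear_combination h2
    exact hp.ne_zero (by exact_mod_cast h3)
  have hreg : ∀ y : G, y ∈ Subgroup.centralizer ((P : Subgroup G) : Set G) → ¬ p ∣ orderOf y →
      y = 1 := by
    intro y hy hyp
    have h1 := M11.value_of_deg_pred p (P : Subgroup G) hP (χ : G → ℂ) hχ hdeg hval y hy hyp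
    have h2 : y ∈ charKer (χ : G → ℂ) hχ := by
      rw [mem_charKer, h1, isChar_one_eq hχ]
    rw [hKbot] at h2
    exact Subgroup.mem_bot.mp h2
  have hcard := M11.card_centralizer_of_regular p P hP hreg
  have hCP : (P : Subgroup G) = Subgroup.centralizer ((P : Subgroup G) : Set G) :=
    Subgroup.eq_of_le_of_card_ge (M11.le_centralizer_of_card_prime' p (P : Subgroup G) hP)
      (by rw [hcard]; exact hP.ge)
  refine ⟨z, hzo, ?_⟩
  rw [← Subgroup.centralizer_closure, ← Subgroup.zpowers_eq_closure, hzP']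
  exact hCP.symm

end Cfsg.Agent.Lib.Helper9.BR
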