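import Cfsg.Agent.Lib.Helper80.BRDefs
import Cfsg.Agent.Lib.Helper20.CharOrth
import Cfsg.Agent.Lib.Helper82.Basic
import Cfsg.Agent.Lib.Helper4.FixedChar

/-!
# Ladder BR, rung NU
-/

set_option autoImplicit false

namespace Cfsg.Agent.Lib.Helper9.BR

open Cfsg Cfsg.Agent.Lib.Helper80.BR Cfsg.Agent.Lib.Helper20 Cfsg.Agent.Lib.Helper82
open scoped ComplexConjugate

theorem char_mul_of_free {G : Type*} [Group G] {χ : G → ℂ} (hc : IsCharacter G χ)
    (P : Subgroup G) [Finite P] (g : G)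
    (hg : g ∈ Subgroup.normalizer (P : Set G)) (hfree : ∀ u ∈ P, g * u = u * g → u = 1) (u : P) :
    χ (g * u) = χ g := by
  have hg' : ∀ v : G, v ∈ P → g⁻¹ * v * g ∈ P := by
    intro v hv
    have := (Subgroup.mem_normalizer_iff.1 (Subgroup.inv_mem _ hg) v).1 hv
    simpa using this
  let φ : P → P := fun v => ⟨g⁻¹ * (v : G)⁻¹ * g * v, P.mul_mem (hg' _ (P.inv_mem v.2)) v.2⟩
  have hinj : Function.Injective φ := by
    intro v w hvw
    have h1 : g⁻¹ * (v : G)⁻¹ * g * v = g⁻¹ * (w : G)⁻¹ * g * w := congrArg Subtype.val hvw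
    have h2 : g * ((v : G) * (w : G)⁻¹) = ((v : G) * (w : G)⁻¹) * g := by
      have h3 : (v : G)⁻¹ * g * v = (w : G)⁻¹ * g * w := by
        have := congrArg (g * ·) h1
        simpa [mul_assoc] using this
      calc g * ((v : G) * (w : G)⁻¹) = v * ((v : G)⁻¹ * g * v) * (w : G)⁻¹ := by group
        _ = v * ((w : G)⁻¹ * g * w) * (w : G)⁻¹ := by rw [h3]
        _ = ((v : G) * (w : G)⁻¹) * g := by group
    have h4 := hfree _ (P.mul_mem v.2 (P.inv_mem w.2)) h2
    exact Subtype.ext (mul_inv_eq_one.1 h4)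
  have hsurj : Function.Surjective φ := Finite.injective_iff_surjective.1 hinj
  obtain ⟨v, rfl⟩ := hsurj u
  have h2 : g * ((φ v : P) : G) = (v : G)⁻¹ * g * ((v : G)⁻¹)⁻¹ := by
    show g * (g⁻¹ * (v : G)⁻¹ * g * v) = _
    group
  rw [h2, isClassFunction_of_isCharacter hc]

theorem eq_of_norm_le_of_re_eq (z : ℂ) (f : ℝ) (h1 : ‖z‖ ≤ f) (h2 : z.re = f) : z = f := by
  have h0 : 0 ≤ f := le_trans (norm_nonneg z) h1
  have h3 : ‖z‖ ^ 2 ≤ f ^ 2 := by gcongr
  rw [Complex.sq_norm, Complex.normSq_apply, h2] at h3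
  have h4 : z.im = 0 := by nlinarith [mul_self_nonneg z.im]
  apply Complex.ext
  · simpa using h2
  · simpa using h4

theorem nu_pack {G : Type*} [Group G] [Fintype G] (P N : Subgroup G) [Fintype P] [Fintype N]
    (hPN : P ≤ N) (hN : N ≤ Subgroup.normalizer (P : Set G))
    (hfree : ∀ g ∈ N, g ∉ P → ∀ u ∈ P, g * u = u * g → u = 1)
    (χ : G → ℂ) (hχ : IsCharacter G χ) :
    ∃ f c : ℕ, ∑ u : P, χ u = (Nat.card P : ℂ) * f ∧ ∑ g : N, χ g = (Nat.card N : ℂ) * c ∧ c ≤ f ∧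
      (∀ g ∈ N, g ∉ P → ‖χ g‖ ≤ f) ∧ (c = f → ∀ g ∈ N, g ∉ P → χ g = f) := by
  classical
  have hP0 : (Nat.card P : ℂ) ≠ 0 := by exact_mod_cast Nat.card_pos.ne'
  have hN0 : (Nat.card N : ℂ) ≠ 0 := by exact_mod_cast Nat.card_pos.ne'
  have hNpos : (0 : ℝ) < (Nat.card N : ℝ) := by exact_mod_cast Nat.card_pos
  have hf : ∀ t : N, ∀ k ∈ P, (N.subtype t)⁻¹ * k * N.subtype t ∈ P := by
    intro t k hk
    have := (Subgroup.mem_normalizer_iff.1 (Subgroup.inv_mem _ (hN t.2)) k).1 hk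
    simpa using this
  have hν := Cfsg.Agent.Lib.Helper4.isCharacter_avg N.subtype P hf hχ
  set ν : N → ℂ := fun t => (Nat.card P : ℂ)⁻¹ * ∑ k : P, χ (N.subtype t * k) with hνdef
  obtain ⟨c, hc⟩ := isCharacter_classInner_nat' hν (isCharacter_one (G := N))
  have hν1 : ν 1 = (charDegree ν : ℂ) := isChar_one_eq hν
  have hνle : ∀ g : N, ‖ν g‖ ≤ (charDegree ν : ℝ) := by
    intro g
    have := isCharacter_norm_le hν g
    rw [hν1] at this
    simpa using this
  have hνχ : ∀ g : N, (g : G) ∉ P → ν g = χ g := by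
    intro g hg
    have : ∀ k : P, χ (N.subtype g * k) = χ g := fun k =>
      char_mul_of_free hχ P g (hN g.2) (hfree g g.2 hg) k
    simp only [hνdef]
    rw [Finset.sum_congr rfl (fun k _ => this k), Finset.sum_const, nsmul_eq_mul, Finset.card_univ,
      ← Nat.card_eq_fintype_card, ← mul_assoc, inv_mul_cancel₀ hP0, one_mul]
  have hsumν : ∑ g : N, ν g = (Nat.card N : ℂ) * c := by
    rw [← hc, classInner, ← mul_assoc, mul_inv_cancel₀ hN0, one_mul]
    simp
  have hsum : ∑ g : N, ν g = ∑ g : N, χ g := by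
    simp only [hνdef]
    rw [← Finset.mul_sum, Finset.sum_comm]
    have : ∀ k : P, ∑ g : N, χ (N.subtype g * k) = ∑ g : N, χ g := by
      intro k
      exact Equiv.sum_comp (Equiv.mulRight (⟨k, hPN k.2⟩ : N)) (fun g : N => χ g)
    rw [Finset.sum_congr rfl (fun k _ => this k), Finset.sum_const, nsmul_eq_mul, Finset.card_univ,
      ← Nat.card_eq_fintype_card, ← mul_assoc, inv_mul_cancel₀ hP0, one_mul]
  refine ⟨charDegree ν, c, ?_, ?_, ?_, ?_, ?_⟩
  · rw [← hν1]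
    simp only [hνdef]
    rw [← mul_assoc, mul_inv_cancel₀ hP0, one_mul]
    simp
  · rw [← hsum, hsumν]
  · have h1 : ‖∑ g : N, ν g‖ ≤ ∑ g : N, (charDegree ν : ℝ) :=
      (norm_sum_le _ _).trans (Finset.sum_le_sum fun g _ => hνle g)
    rw [hsumν, Finset.sum_const, nsmul_eq_mul, Finset.card_univ, ← Nat.card_eq_fintype_card,
      norm_mul, Complex.norm_natCast, Complex.norm_natCast] at h1
    have h2 : (c : ℝ) ≤ (charDegree ν : ℝ) := le_of_mul_le_mul_left h1 hNpos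
    exact_mod_cast h2
  · intro g hg hgP
    rw [← hνχ ⟨g, hg⟩ hgP]
    exact hνle _
  · intro hcf g hg hgP
    rw [← hνχ ⟨g, hg⟩ hgP]
    have h1 : ∑ g : N, ((charDegree ν : ℝ) - (ν g).re) = 0 := by
      rw [Finset.sum_sub_distrib, Finset.sum_const, nsmul_eq_mul, Finset.card_univ,
        ← Nat.card_eq_fintype_card, ← Complex.re_sum, hsumν, hcf]
      simp
    have h2 := (Finset.sum_eq_zero_iff_of_nonneg (fun g _ => by
      have := (Complex.re_le_norm (ν g)).trans (hνle g)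
      linarith)).mp h1 ⟨g, hg⟩ (Finset.mem_univ _)
    have h3 := eq_of_norm_le_of_re_eq (ν ⟨g, hg⟩) (charDegree ν : ℝ) (hνle _) (by linarith)
    rw [h3]
    simp

end Cfsg.Agent.Lib.Helper9.BR
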