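import Cfsg.Agent.Lib.Helper80.BRDefs
import Cfsg.Agent.Lib.Helper20.CharOrth
import Cfsg.Agent.Lib.Helper82.Basic

/-!
# Ladder BR, rung TENSOR
-/

set_option autoImplicit false

namespace Cfsg.Agent.Lib.Helper9.BR

open Cfsg Cfsg.Agent.Lib.Helper80.BR Cfsg.Agent.Lib.Helper20 Cfsg.Agent.Lib.Helper82
open scoped ComplexConjugate

theorem multiset_sum_apply_one {G : Type*} [Group G] (m : Multiset (IrrCharacter G)) :
    (m.map Subtype.val).sum 1 = (((m.map (fun χ : IrrCharacter G => charDegree (χ : G → ℂ))).sum : ℕ) : ℂ) := by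
  induction m using Multiset.induction_on with
  | empty => simp
  | cons a m ih =>
    rw [Multiset.map_cons, Multiset.sum_cons, Multiset.map_cons, Multiset.sum_cons, Pi.add_apply, ih,
      isChar_one_eq (isCharacter_of_isIrrCharacter a.2)]
    push_cast
    rfl

theorem tensor_bound {G : Type*} [Group G] [Fintype G] (θ₁ θ₂ : IrrCharacter G) (hne : θ₁ ≠ θ₂)
    (S : Finset (IrrCharacter G)) (Sing : G → Prop)
    (hreg : ∀ g, ¬ Sing g → (θ₁ : G → ℂ) g = (θ₂ : G → ℂ) g)
    (hS : ∀ χ ∈ S, ∀ g, Sing g → (χ : G → ℂ) g = -1) :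
    ∑ χ ∈ S, charDegree (χ : G → ℂ) ≤ charDegree (θ₁ : G → ℂ) * charDegree (θ₂ : G → ℂ) := by
  classical
  have h1 := isCharacter_of_isIrrCharacter θ₁.2
  have h2 := isCharacter_of_isIrrCharacter θ₂.2
  have hA : IsCharacter G ((θ₁ : G → ℂ) * fun g => conj ((θ₁ : G → ℂ) g)) :=
    isCharacter_mul h1 (isCharacter_conj h1)
  have hB : IsCharacter G ((θ₁ : G → ℂ) * fun g => conj ((θ₂ : G → ℂ) g)) :=
    isCharacter_mul h1 (isCharacter_conj h2)
  obtain ⟨l, hl⟩ := exists_multiset_of_isCharacter hB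
  have key : ∀ χ ∈ S, 1 ≤ l.count χ := by
    intro χ hχ
    obtain ⟨n, hn⟩ := isCharacter_classInner_nat hA χ.2
    have e1 : classInner ((θ₁ : G → ℂ) * fun g => conj ((θ₂ : G → ℂ) g)) (χ : G → ℂ)
        = l.count χ := by
      rw [hl]; exact classInner_multiset_sum l χ
    have e2 : classInner ((θ₁ : G → ℂ) * fun g => conj ((θ₁ : G → ℂ) g)) (χ : G → ℂ)
        - classInner ((θ₁ : G → ℂ) * fun g => conj ((θ₂ : G → ℂ) g)) (χ : G → ℂ)
        = -(classInner (θ₁ : G → ℂ) (θ₁ : G → ℂ) - classInner (θ₁ : G → ℂ) (θ₂ : G → ℂ)) := by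
      simp only [classInner]
      rw [← mul_sub, ← mul_sub, ← mul_neg, ← Finset.sum_sub_distrib, ← Finset.sum_sub_distrib,
        ← Finset.sum_neg_distrib]
      congr 1
      refine Finset.sum_congr rfl fun g _ => ?_
      by_cases hg : Sing g
      · rw [hS χ hχ g hg]
        simp only [Pi.mul_apply, map_neg, map_one]
        ring
      · simp only [Pi.mul_apply, hreg g hg]
        ring
    rw [classInner_irr_self θ₁.2, classInner_irr_ne θ₁.2 θ₂.2 (fun h => hne (Subtype.ext h)), hn,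
      e1] at e2
    have e3 : (l.count χ : ℂ) = ((n + 1 : ℕ) : ℂ) := by
      push_cast
      linear_combination -e2
    have e4 : l.count χ = n + 1 := by exact_mod_cast e3
    omega
  have hle : S.val ≤ l := by
    rw [Multiset.le_iff_count]
    intro a
    by_cases ha : a ∈ S
    · rw [Multiset.count_eq_one_of_mem S.nodup ha]; exact key a ha
    · rw [Multiset.count_eq_zero_of_notMem ha]; exact Nat.zero_le _
  have hB1 : (((l.map (fun χ : IrrCharacter G => charDegree (χ : G → ℂ))).sum : ℕ) : ℂ)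
      = ((charDegree (θ₁ : G → ℂ) * charDegree (θ₂ : G → ℂ) : ℕ) : ℂ) := by
    rw [← multiset_sum_apply_one, ← hl, Pi.mul_apply, isChar_one_eq h1, isChar_one_eq h2]
    simp
  have hB2 : (l.map (fun χ : IrrCharacter G => charDegree (χ : G → ℂ))).sum
      = charDegree (θ₁ : G → ℂ) * charDegree (θ₂ : G → ℂ) := by exact_mod_cast hB1
  rw [← hB2]
  obtain ⟨t, rfl⟩ := Multiset.le_iff_exists_add.mp hle
  rw [Multiset.map_add, Multiset.sum_add]
  exact Nat.le_add_right _ _

end Cfsg.Agent.Lib.Helper9.BR
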