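import Cfsg.Agent.Lib.Helper71.GS.Defs
import Cfsg.Prelude.Def_CaseTheorems

set_option autoImplicit false

open Cfsg.Agent.Lib.Helper71.GS

namespace Cfsg.Agent.Lib.Helper9.GS

/-- CPR -/
theorem cent_prime {X : Type*} [Group X] [Finite X] (R : Subgroup X) (r p : ℕ) (hr : r.Prime)
    (hp : p.Prime) (hR : Nat.card R = r) (g : X) (hg : ∀ q ∈ R, g * q * g⁻¹ ∈ R)
    (hgp : g ^ p = 1) (hpr : ¬ p ∣ r - 1) : ∀ q ∈ R, g * q = q * g := by
  classical
  have : Fact p.Prime := ⟨hp⟩
  let f : Function.End R := fun q => ⟨g * q * g⁻¹, hg q q.2⟩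
  have hf : ∀ (n : ℕ) (q : R), (((f ^ n : Function.End R) q : R) : X) = g ^ n * q * (g ^ n)⁻¹ := by
    intro n
    induction n with
    | zero =>
      intro q
      rw [pow_zero, pow_zero]
      change (q : X) = 1 * q * 1⁻¹
      simp
    | succ n ih =>
      intro q
      rw [pow_succ']
      change g * (((f ^ n : Function.End R) q : R) : X) * g⁻¹ = _
      rw [ih, pow_succ']
      group
  have hfp : f ^ p ^ 1 = 1 := by
    funext q
    apply Subtype.ext
    rw [pow_one, hf, hgp]
    change 1 * (q : X) * 1⁻¹ = q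
    simp
  let C : Subgroup R :=
    { carrier := {q | g * (q : X) * g⁻¹ = q}
      one_mem' := by simp
      mul_mem' := by
        intro a b ha hb
        change g * ((a : X) * b) * g⁻¹ = (a : X) * b
        calc g * ((a : X) * b) * g⁻¹ = (g * a * g⁻¹) * (g * b * g⁻¹) := by group
          _ = (a : X) * b := by rw [ha, hb]
      inv_mem' := by
        intro a ha
        change g * (a : X)⁻¹ * g⁻¹ = (a : X)⁻¹
        calc g * (a : X)⁻¹ * g⁻¹ = (g * a * g⁻¹)⁻¹ := by group
          _ = (a : X)⁻¹ := by rw [ha] }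
  let iF : Fintype R := Fintype.ofFinite R
  have hmod := Equiv.Perm.card_fixedPoints_modEq hfp
  have hcard : Fintype.card (Function.fixedPoints f) = Nat.card C := by
    rw [← Nat.card_eq_fintype_card]
    apply Nat.card_congr
    refine Equiv.subtypeEquivRight (fun q => ?_)
    constructor
    · intro h
      exact congrArg Subtype.val h
    · intro h
      exact Subtype.ext h
  rw [hcard, ← Nat.card_eq_fintype_card, hR] at hmod
  have hdvd : Nat.card C ∣ r := hR ▸ Subgroup.card_subgroup_dvd_card C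
  rcases (Nat.dvd_prime hr).1 hdvd with h1 | h1
  · exfalso
    rw [h1] at hmod
    exact hpr ((Nat.modEq_iff_dvd' hr.one_lt.le).1 hmod.symm)
  · have hC : C = ⊤ := Subgroup.eq_top_of_card_eq C (by rw [h1, hR])
    intro q hq
    have h2 : (⟨q, hq⟩ : R) ∈ C := by rw [hC]; trivial
    have h3 : g * q * g⁻¹ = q := h2
    calc g * q = (g * q * g⁻¹) * g := by group
      _ = q * g := by rw [h3]

end Cfsg.Agent.Lib.Helper9.GS
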