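import Cfsg.Agent.Lib.Helper71.GS.Defs
import Cfsg.Prelude.Def_CaseTheorems

set_option autoImplicit false

open Cfsg.Agent.Lib.Helper71.GS

namespace Cfsg.Agent.Lib.Helper9.GS

/-- DBL -/
theorem comm_of_cyclic {V : Type*} [AddCommGroup V] (y a b : V →+ V) (v : V)
    (hgen : AddSubgroup.closure (Set.range fun n : ℕ => (⇑y)^[n] v) = ⊤)
    (hay : ∀ w, a (y w) = y (a w)) (hby : ∀ w, b (y w) = y (b w)) : ∀ w, a (b w) = b (a w) := by
  have hQ0 : ∀ n : ℕ, ∃ φ : V →+ V, φ v = (⇑y)^[n] v ∧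
      ∀ c : V →+ V, (∀ u, c (y u) = y (c u)) → ∀ u, c (φ u) = φ (c u) := by
    intro n
    induction n with
    | zero => exact ⟨AddMonoidHom.id V, rfl, fun c _ u => rfl⟩
    | succ n ih =>
      obtain ⟨φ, h1, h2⟩ := ih
      refine ⟨y.comp φ, ?_, ?_⟩
      · rw [AddMonoidHom.comp_apply, h1, Function.iterate_succ_apply']
      · intro c hc u
        rw [AddMonoidHom.comp_apply, AddMonoidHom.comp_apply, hc, h2 c hc]
  have hQ : ∀ w : V, ∃ φ : V →+ V, φ v = w ∧
      ∀ c : V →+ V, (∀ u, c (y u) = y (c u)) → ∀ u, c (φ u) = φ (c u) := by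
    intro w
    have hw : w ∈ AddSubgroup.closure (Set.range fun n : ℕ => (⇑y)^[n] v) := by
      rw [hgen]; trivial
    induction hw using AddSubgroup.closure_induction with
    | mem x hx =>
      obtain ⟨n, rfl⟩ := hx
      exact hQ0 n
    | zero => exact ⟨0, rfl, fun c _ u => by simp⟩
    | add s t _ _ hs ht =>
      obtain ⟨φ, h1, h2⟩ := hs
      obtain ⟨ψ, h3, h4⟩ := ht
      refine ⟨φ + ψ, by rw [AddMonoidHom.add_apply, h1, h3], fun c hc u => ?_⟩
      rw [AddMonoidHom.add_apply, AddMonoidHom.add_apply, map_add, h2 c hc, h4 c hc]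
    | neg s _ hs =>
      obtain ⟨φ, h1, h2⟩ := hs
      refine ⟨-φ, by rw [AddMonoidHom.neg_apply, h1], fun c hc u => ?_⟩
      rw [AddMonoidHom.neg_apply, AddMonoidHom.neg_apply, map_neg, h2 c hc]
  obtain ⟨φ, hφ1, hφ2⟩ := hQ (a v)
  obtain ⟨ψ, hψ1, hψ2⟩ := hQ (b v)
  have hψy : ∀ u, ψ (y u) = y (ψ u) := fun u => (hψ2 y (fun _ => rfl) u).symm
  have hv : a (b v) = b (a v) := by
    rw [← hψ1, hψ2 a hay, ← hφ1, hφ2 b hby, ← hψ1, hφ2 ψ hψy]
  have hn : ∀ n : ℕ, a (b ((⇑y)^[n] v)) = b (a ((⇑y)^[n] v)) := by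
    intro n
    induction n with
    | zero => exact hv
    | succ n ih =>
      rw [Function.iterate_succ_apply', hby, hay, ih, hay, hby]
  intro w
  have hw : w ∈ AddSubgroup.closure (Set.range fun n : ℕ => (⇑y)^[n] v) := by
    rw [hgen]; trivial
  induction hw using AddSubgroup.closure_induction with
  | mem x hx =>
    obtain ⟨n, rfl⟩ := hx
    exact hn n
  | zero => simp
  | add s t _ _ hs ht => rw [map_add, map_add, map_add, map_add, hs, ht]
  | neg s _ hs => rw [map_neg, map_neg, map_neg, map_neg, hs]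

end Cfsg.Agent.Lib.Helper9.GS
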