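import Cfsg.Agent.Lib.Helper71.GS.Defs
import Cfsg.Prelude.Def_CaseTheorems

set_option autoImplicit false

open Cfsg.Agent.Lib.Helper71.GS

namespace Cfsg.Agent.Lib.Helper9.GS

/-- INV -/
theorem invol_unique {p : ℕ} [Fact p.Prime] {X : Type*} [Group X] {V : Type*}
    [AddCommGroup V] [Module (ZMod p) V]
    {ρ : X →* (V ≃ₗ[ZMod p] V)} (L : LA p ρ) (hp2 : p ≠ 2) :
    ∀ x y : X, orderOf x = 2 → orderOf y = 2 → x = y := by
  have hp : p.Prime := Fact.out
  have hco : Nat.Coprime 2 p := (Nat.coprime_primes Nat.prime_two hp).2 (Ne.symm hp2)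
  have key : ∀ x : X, orderOf x = 2 → ∀ v : V, ρ x v = -v := by
    intro x hx v
    have hx2 : x * x = 1 := by
      rw [← pow_two, ← hx, pow_orderOf_eq_one]
    have hx1 : x ≠ 1 := by
      intro h
      rw [h, orderOf_one] at hx
      norm_num at hx
    have hfix : ρ x (v + ρ x v) = v + ρ x v := by
      rw [map_add, ← LinearEquiv.mul_apply, ← map_mul, hx2, map_one, add_comm]
      rfl
    by_contra hne
    have hne0 : v + ρ x v ≠ 0 := by
      intro h
      apply hne
      rw [eq_neg_iff_add_eq_zero, add_comm]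
      exact h
    exact hx1 (L.fix x _ hne0 hfix (by rw [hx]; exact hco))
  intro x y hx hy
  apply L.inj
  refine LinearEquiv.ext fun v => ?_
  rw [key x hx, key y hy]

end Cfsg.Agent.Lib.Helper9.GS
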