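import Cfsg.Agent.Lib.Helper71.GS.Defs
import Cfsg.Prelude.Def_CaseTheorems

set_option autoImplicit false

open Cfsg.Agent.Lib.Helper71.GS

namespace Cfsg.Agent.Lib.Helper9.GS

/-- STAB2 -/
theorem stab_pgroup {p : ℕ} [Fact p.Prime] {X : Type*} [Group X] [Finite X] {V : Type*}
    [AddCommGroup V] [Module (ZMod p) V]
    {ρ : X →* (V ≃ₗ[ZMod p] V)} (L : LA p ρ) (v : V) (hv : v ≠ 0) :
    IsPGroup p (stab ρ v) := by
  have hp : p.Prime := Fact.out
  intro g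
  obtain ⟨k, m, hm, hkm⟩ := Nat.exists_eq_pow_mul_and_not_dvd (orderOf_pos (g : X)).ne' p
    hp.one_lt.ne'
  refine ⟨k, ?_⟩
  have ho : orderOf ((g : X) ^ p ^ k) = m := by
    rw [orderOf_pow_of_dvd (pow_ne_zero _ hp.pos.ne') (by rw [hkm]; exact Dvd.intro _ rfl), hkm,
      Nat.mul_div_cancel_left _ (pow_pos hp.pos _)]
  have hmem : (g : X) ^ p ^ k ∈ stab ρ v := (stab ρ v).pow_mem g.2 _
  have h1 : (g : X) ^ p ^ k = 1 := by
    apply L.fix _ v hv hmem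
    rw [ho]
    exact ((Nat.Prime.coprime_iff_not_dvd hp).2 hm).symm
  ext
  simpa using h1

end Cfsg.Agent.Lib.Helper9.GS
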