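import Cfsg.Agent.Lib.Helper71.GS.Defs
import Cfsg.Prelude.Def_CaseTheorems

set_option autoImplicit false

open Cfsg.Agent.Lib.Helper71.GS

namespace Cfsg.Agent.Lib.Helper9.GS

/-- UNIQ -/
theorem uniq {G : Type*} [Group G] [Finite G] {p : ℕ} [Fact p.Prime] (N : Subgroup G) [N.Normal]
    (hN1 : N ≠ ⊥) (hNp : IsPGroup p N)
    (hmin : ∀ K : Subgroup G, K.Normal → K ≠ ⊥ → N ≤ K) :
    ∀ q : ℕ, q.Prime → (Cfsg.pCore q G ≠ ⊥ ↔ q = p) := by
  intro q hq
  have : Fact q.Prime := ⟨hq⟩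
  constructor
  · intro h
    have hle : N ≤ Cfsg.pCore q G := hmin _ inferInstance h
    have hOq : IsPGroup q (Cfsg.pCore q G) :=
      Sylow.sSup_of_normal _ (fun _ h => h.2) (fun _ h => h.1)
    have hNq : IsPGroup q N := hOq.to_le hle
    by_contra hne
    have := IsPGroup.disjoint_of_ne q p hne N N hNq hNp
    exact hN1 (disjoint_self.1 this)
  · rintro rfl h
    have hle : N ≤ Cfsg.pCore q G := le_sSup ⟨inferInstance, hNp⟩
    rw [h] at hle
    exact hN1 (le_bot_iff.1 hle)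

end Cfsg.Agent.Lib.Helper9.GS
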