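import Cfsg.Agent.S4593
import Cfsg.Agent.S0111
import Cfsg.Agent.S0276
import Cfsg.Agent.Lib.Helper9.JRPsl
import Cfsg.Agent.Lib.Helper9.SchurEA

set_option autoImplicit false

/-!
Groups of Janko-Ree type: Sylow 2-subgroups are elementary abelian of order eight with all
involutions conjugate; consequences for central extensions.
-/

namespace Cfsg.Agent.Lib.Helper9.JR

open Subgroup Cfsg

universe u v

/-- Reduction to kernels of exponent two (two universes). -/
theorem exists_sqrt_of_exp2' {G : Type u} [Group G]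
    (H2 : ∀ (Γ' : Type v) [Group Γ'] [Finite Γ'] (σ' : Γ' →* G), IsStemExtension σ' →
      (∀ z ∈ σ'.ker, z * z = 1) → ∀ z ∈ σ'.ker, z = 1)
    (Γ : Type v) [Group Γ] [Finite Γ] (σ : Γ →* G) (hσ : IsStemExtension σ) :
    ∀ z ∈ σ.ker, ∃ y ∈ σ.ker, z = y * y := by
  intro z hz
  have h0 : ∀ x ∈ sqKer σ hσ.2.1, σ x = 1 := by
    rintro _ ⟨a, ha, rfl⟩
    rw [map_mul, MonoidHom.mem_ker.1 ha, one_mul]
  have h1 := H2 (Γ ⧸ sqKer σ hσ.2.1) (QuotientGroup.lift _ σ h0) (stem_quotient σ hσ _ h0) (by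
    intro x hx
    obtain ⟨g, rfl⟩ := QuotientGroup.mk_surjective x
    have hg : g ∈ σ.ker := hx
    rw [← QuotientGroup.mk_mul, QuotientGroup.eq_one_iff]
    exact ⟨g, hg, rfl⟩) (QuotientGroup.mk z) hz
  rw [QuotientGroup.eq_one_iff] at h1
  exact h1

theorem pPrimeCore_eq_bot {K : Type*} [Group K] [Finite K] [IsSimpleGroup K]
    (h2 : 2 ∣ Nat.card K) : Cfsg.pPrimeCore 2 K = ⊥ := by
  unfold Cfsg.pPrimeCore
  rw [eq_bot_iff]
  apply sSup_le
  rintro M ⟨hM, hc⟩
  rcases hM.eq_bot_or_eq_top with h | h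
  · rw [h]
  · exfalso
    rw [h, Subgroup.card_top] at hc
    have := Nat.dvd_gcd h2 (dvd_refl 2)
    rw [hc] at this
    omega

theorem mem_sup_of_commute {G : Type*} [Group G] (A B : Subgroup G)
    (h : ∀ a ∈ A, ∀ b ∈ B, a * b = b * a) {x : G} (hx : x ∈ A ⊔ B) :
    ∃ a ∈ A, ∃ b ∈ B, x = a * b := by
  let M : Subgroup G :=
    { carrier := {x | ∃ a ∈ A, ∃ b ∈ B, x = a * b}
      mul_mem' := by
        rintro _ _ ⟨a, ha, b, hb, rfl⟩ ⟨a', ha', b', hb', rfl⟩
        refine ⟨a * a', mul_mem ha ha', b * b', mul_mem hb hb', ?_⟩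
        calc a * b * (a' * b') = a * (b * a') * b' := by group
          _ = a * (a' * b) * b' := by rw [h a' ha' b hb]
          _ = a * a' * (b * b') := by group
      one_mem' := ⟨1, one_mem _, 1, one_mem _, by simp⟩
      inv_mem' := by
        rintro _ ⟨a, ha, b, hb, rfl⟩
        refine ⟨a⁻¹, inv_mem ha, b⁻¹, inv_mem hb, ?_⟩
        rw [h a ha b hb, mul_inv_rev] }
  have : A ⊔ B ≤ M := sup_le (fun a ha => ⟨a, ha, 1, one_mem _, by simp⟩)
    (fun b hb => ⟨1, one_mem _, b, hb, by simp⟩)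
  exact this hx

theorem mem_zpowers_two {G : Type*} [Group G] {t a : G} (ht : t * t = 1) (ha : a ∈ zpowers t) :
    a = 1 ∨ a = t := by
  obtain ⟨k, rfl⟩ := mem_zpowers_iff.1 ha
  have h2 : t ^ (2 : ℤ) = 1 := by
    rw [zpow_two]; exact ht
  rcases Int.even_or_odd' k with ⟨m, rfl | rfl⟩
  · left; rw [zpow_mul, h2, one_zpow]
  · right; rw [zpow_add, zpow_mul, h2, one_zpow, one_mul, zpow_one]

/-- A 2-element of `E` commuting with a Sylow 2-subgroup of the simple normal subgroup `N` with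
trivial centralizer lies in `N`. -/
theorem mem_of_commutes_sylow {E : Type*} [Group E] [Finite E] (N : Subgroup E) [N.Normal]
    [IsSimpleGroup N] (h2 : 2 ∣ Nat.card N) (hNc : centralizer (N : Set E) = ⊥) (P : Sylow 2 N)
    (hP : IsMulCommutative (P : Subgroup N)) (e : E) (k : ℕ) (he : e ^ 2 ^ k = 1)
    (hcomm : ∀ x ∈ (P : Subgroup N), e * (x : E) = (x : E) * e) : e ∈ N := by
  have hZ : center N = ⊥ := by
    rw [eq_bot_iff]
    intro z hz
    rw [mem_bot]
    have : (z : E) ∈ centralizer (N : Set E) := by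
      rw [mem_centralizer_iff]
      intro h hh
      have := mem_center_iff.1 hz ⟨h, hh⟩
      exact congrArg Subtype.val this
    rw [hNc, mem_bot] at this
    exact Subtype.ext this
  have hα : (MulAut.conjNormal e : MulAut N) ^ 2 ^ k = 1 := by
    rw [← map_pow, he, map_one]
  obtain ⟨j, -, hj⟩ := (Nat.dvd_prime_pow Nat.prime_two).1 (orderOf_dvd_of_pow_eq_one hα)
  obtain ⟨g, hg⟩ := Cfsg.Agent.S4593.result hZ (pPrimeCore_eq_bot h2) P hP
    (MulAut.conjNormal e : MulAut N) ⟨j, hj⟩ (by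
      intro x hx
      apply Subtype.ext
      rw [MulAut.conjNormal_apply, hcomm x hx, mul_inv_cancel_right])
  have hc : (g : E)⁻¹ * e ∈ centralizer (N : Set E) := by
    rw [mem_centralizer_iff]
    intro n hn
    have h1 := congrArg Subtype.val (hg ⟨n, hn⟩)
    rw [MulAut.conjNormal_apply] at h1
    have h1' : e * n * e⁻¹ = (g : E) * n * (g : E)⁻¹ := h1
    calc n * ((g : E)⁻¹ * e) = (g : E)⁻¹ * ((g : E) * n * (g : E)⁻¹) * e := by group
      _ = (g : E)⁻¹ * (e * n * e⁻¹) * e := by rw [h1']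
      _ = (g : E)⁻¹ * e * n := by group
  rw [hNc, mem_bot] at hc
  have : e = g := by
    have := congrArg (fun y => (g : E) * y) hc
    simpa using this
  rw [this]
  exact g.2

theorem thompson_simple {K : Type*} [Group K] [Finite K] [IsSimpleGroup K] (h4 : 4 ∣ Nat.card K)
    (P : Sylow 2 K) (Q : Subgroup K) (hQP : Q ≤ (P : Subgroup K))
    (hQi : Q.relIndex (P : Subgroup K) = 2) (u : K) (hu : orderOf u = 2)
    (huP : u ∈ (P : Subgroup K)) (huQ : u ∉ Q) : ∃ g : K, g * u * g⁻¹ ∈ Q := by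
  rcases Cfsg.Agent.S0111.result P Q hQP hQi u hu huP huQ with ⟨M, hM, hi, -⟩ | h
  · exfalso
    rcases hM.eq_bot_or_eq_top with h | h
    · rw [h, index_bot] at hi
      omega
    · rw [h, index_top] at hi
      omega
  · exact h

theorem relIndex_two_of_card {K : Type*} [Group K] (Q P : Subgroup K) (h : Q ≤ P)
    (hc : Nat.card P = 2 * Nat.card Q) (hpos : 0 < Nat.card Q) : Q.relIndex P = 2 := by
  have h1 := (Q.subgroupOf P).card_mul_index
  rw [Nat.card_congr (subgroupOfEquivOfLe h).toEquiv, hc] at h1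
  have h2 : Nat.card Q * (Q.subgroupOf P).index = Nat.card Q * 2 := by rw [h1]; ring
  exact Nat.eq_of_mul_eq_mul_left hpos h2

/-- conjugacy relation -/
def R {G : Type*} [Group G] (a b : G) : Prop := ∃ g : G, g * a * g⁻¹ = b

theorem R.symm {G : Type*} [Group G] {a b : G} (h : R a b) : R b a := by
  obtain ⟨g, rfl⟩ := h
  exact ⟨g⁻¹, by group⟩

theorem R.trans {G : Type*} [Group G] {a b c : G} (h : R a b) (h' : R b c) : R a c := by
  obtain ⟨g, rfl⟩ := h
  obtain ⟨g', rfl⟩ := h'
  exact ⟨g' * g, by group⟩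

theorem d2_a : (DihedralGroup.r 1 : DihedralGroup 2) ≠ 1 := by decide
theorem d2_b : (DihedralGroup.sr 0 : DihedralGroup 2) ≠ 1 := by decide
theorem d2_c : (DihedralGroup.r 1 : DihedralGroup 2) ≠ DihedralGroup.sr 0 := by decide

theorem main_abs {G : Type*} [Group G] [Finite G] [IsSimpleGroup G]
    (hab : ∀ S : Sylow 2 G, IsMulCommutative ↥(S : Subgroup G))
    (t : G) (ht : orderOf t = 2) (E : Subgroup G)
    (hE : Cfsg.IsInternalDirectProduct (zpowers t) E (centralizer ({t} : Set G)))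
    (N : Subgroup ↥E) [N.Normal] [IsSimpleGroup N]
    (hK : ∀ P : Sylow 2 N, IsKleinFour ↥(P : Subgroup N))
    (hNc : centralizer (N : Set ↥E) = ⊥) :
    ∃ v w : G, (∀ s ∈ [v, w, t * v, t * w, v * w, t * (v * w)], ∃ g, g * t * g⁻¹ = s) ∧
      Odd (closure ({t, v, w} : Set G)).index := by
  classical
  have : Fact (Nat.Prime 2) := ⟨Nat.prime_two⟩
  obtain ⟨hE1, hE2, hE3, hE4, hE5⟩ := hE
  have htt : t * t = 1 := by
    rw [← pow_two, ← ht]; exact pow_orderOf_eq_one t
  have ht1 : t ≠ 1 := by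
    intro h; rw [h, orderOf_one] at ht; omega
  have htE : ∀ b ∈ E, t * b = b * t := fun b hb => hE3 t (mem_zpowers t) b hb
  have htnE : t ∉ E := by
    intro h
    have : t ∈ zpowers t ⊓ E := ⟨mem_zpowers t, h⟩
    rw [hE4, mem_bot] at this
    exact ht1 this
  obtain ⟨PN⟩ : Nonempty (Sylow 2 N) := inferInstance
  have := hK PN
  obtain ⟨f⟩ : Nonempty (DihedralGroup 2 ≃* ↥(PN : Subgroup N)) := IsKleinFour.nonempty_mulEquiv
  set x : ↥(PN : Subgroup N) := f (DihedralGroup.r 1) with hx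
  set y : ↥(PN : Subgroup N) := f (DihedralGroup.sr 0) with hy
  have hx1 : x ≠ 1 := (map_ne_one_iff f f.injective).2 d2_a
  have hy1 : y ≠ 1 := (map_ne_one_iff f f.injective).2 d2_b
  have hxy : x ≠ y := f.injective.ne d2_c
  have hall : ∀ z : ↥(PN : Subgroup N), z = x * y ∨ z = x ∨ z = y ∨ z = 1 := by
    intro z
    by_contra hcon
    push Not at hcon
    exact hcon.1 (IsKleinFour.eq_mul_of_ne_all hx1 hy1 hxy hcon.2.2.2 hcon.2.1 hcon.2.2.1)
  let ι : ↥N →* G := E.subtype.comp N.subtype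
  have hι : Function.Injective ι := fun a b h => Subtype.ext (Subtype.ext h)
  have hιE : ∀ n : ↥N, ι n ∈ E := fun n => n.1.2
  have hιt : ∀ n : ↥N, t * ι n = ι n * t := fun n => htE _ (hιE n)
  let V : Subgroup G := (PN : Subgroup N).map ι
  have hVE : V ≤ E := by
    rintro _ ⟨n, -, rfl⟩
    exact hιE n
  have htV : t ∉ V := fun h => htnE (hVE h)
  have hVp : IsPGroup 2 V := PN.isPGroup'.map ι
  have hVt : ∀ h ∈ V, t * h * t⁻¹ = h := by
    intro h hh
    rw [htE h (hVE hh), mul_inv_cancel_right]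
  have hnorm : zpowers t ≤ Subgroup.normalizer (V : Set G) := by
    rw [zpowers_le, mem_normalizer_iff]
    intro h
    refine ⟨fun hh => by rw [hVt h hh]; exact hh, fun hh => ?_⟩
    have h1 := htE _ (hVE hh)
    have h2 : h = t * h * t⁻¹ := by
      have : t * (t * h * t⁻¹) = t * h := by rw [h1]; group
      exact (mul_left_cancel this).symm
    rw [h2]; exact hh
  have htp : IsPGroup 2 (zpowers t) := isPGroup_zpowers_two t 1 (by rw [pow_one, pow_two]; exact htt)
  obtain ⟨S1, hS1⟩ := (IsPGroup.to_sup_of_normal_right' htp hVp hnorm).exists_le_sylow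
  have htS : t ∈ (S1 : Subgroup G) := hS1 (mem_sup_left (mem_zpowers t))
  have hVS : V ≤ (S1 : Subgroup G) := le_trans le_sup_right hS1
  have hcS : ∀ a ∈ (S1 : Subgroup G), ∀ b ∈ (S1 : Subgroup G), a * b = b * a := fun a ha b hb =>
    congrArg Subtype.val ((hab S1).is_comm.comm ⟨a, ha⟩ ⟨b, hb⟩)
  have hPNc : IsMulCommutative ↥(PN : Subgroup N) := IsKleinFour.isMulCommutative
  have h4N : 4 ∣ Nat.card N := by
    have := Subgroup.card_subgroup_dvd_card (PN : Subgroup N)
    rwa [IsKleinFour.card_four] at this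
  -- decomposition of the Sylow subgroup
  have hdec : ∀ s ∈ (S1 : Subgroup G), ∃ a ∈ zpowers t, ∃ z : ↥(PN : Subgroup N), s = a * ι z := by
    intro s hs
    have h1 : s ∈ centralizer ({t} : Set G) := by
      rw [mem_centralizer_iff]
      intro h hh
      rw [Set.mem_singleton_iff] at hh
      subst hh
      exact hcS _ htS _ hs
    rw [← hE5] at h1
    obtain ⟨a, ha, b, hb, rfl⟩ := mem_sup_of_commute _ _ hE3 h1
    have haS : a ∈ (S1 : Subgroup G) := hS1 (mem_sup_left ha)
    have hbS : b ∈ (S1 : Subgroup G) := by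
      have := mul_mem (inv_mem haS) hs
      simpa using this
    obtain ⟨k, hk⟩ := S1.isPGroup' ⟨b, hbS⟩
    have hk' : b ^ 2 ^ k = 1 := congrArg Subtype.val hk
    have hbN : (⟨b, hb⟩ : ↥E) ∈ N := by
      refine mem_of_commutes_sylow N (dvd_trans (by norm_num) h4N) hNc PN hPNc ⟨b, hb⟩ k
        (Subtype.ext hk') ?_
      intro n hn
      apply Subtype.ext
      exact hcS b hbS (ι n) (hVS ⟨n, hn, rfl⟩)
    have hQ : IsPGroup 2 ((S1 : Subgroup G).comap ι) := S1.isPGroup'.comap_of_injective ι hι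
    have hle : (PN : Subgroup N) ≤ (S1 : Subgroup G).comap ι := fun n hn => hVS ⟨n, hn, rfl⟩
    have heq := PN.is_maximal' hQ hle
    have hbP : (⟨⟨b, hb⟩, hbN⟩ : ↥N) ∈ (PN : Subgroup N) := by
      rw [← heq]
      exact hbS
    exact ⟨a, ha, ⟨_, hbP⟩, rfl⟩
  have hxx : x * x = 1 := IsKleinFour.mul_self x
  have hyy : y * y = 1 := IsKleinFour.mul_self y
  have hxyc : x * y = y * x := hPNc.is_comm.comm x y
  have hord : ∀ z : ↥(PN : Subgroup N), z ≠ 1 → orderOf (z : ↥N) = 2 := by
    intro z hz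
    refine orderOf_eq_prime ?_ ?_
    · rw [pow_two]
      exact congrArg Subtype.val (IsKleinFour.mul_self z)
    · intro h
      exact hz (Subtype.ext h)
  have hxy1 : x * y ≠ 1 := by
    intro h
    apply hxy
    calc x = x * (y * y) := by rw [hyy, mul_one]
      _ = (x * y) * y := by group
      _ = y := by rw [h, one_mul]
  -- Thompson transfer inside `N`
  have hQP : zpowers (x : ↥N) ≤ (PN : Subgroup N) := zpowers_le.2 x.2
  have hQi : (zpowers (x : ↥N)).relIndex (PN : Subgroup N) = 2 := by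
    refine relIndex_two_of_card _ _ hQP ?_ Nat.card_pos
    rw [Nat.card_zpowers, hord x hx1, IsKleinFour.card_four]
  have hxx' : (x : ↥N) * (x : ↥N) = 1 := congrArg Subtype.val hxx
  have hN1 : ∀ z : ↥(PN : Subgroup N), z ≠ 1 → z ≠ x → ∃ g : ↥N, g * (z : ↥N) * g⁻¹ = (x : ↥N) := by
    intro z hz1 hzx
    obtain ⟨g, hg⟩ := thompson_simple h4N PN _ hQP hQi (z : ↥N) (hord z hz1) z.2 (by
      intro h
      rcases mem_zpowers_two hxx' h with h | h
      · exact hz1 (Subtype.ext h)
      · exact hzx (Subtype.ext h))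
    refine ⟨g, ?_⟩
    rcases mem_zpowers_two hxx' hg with h | h
    · exfalso
      apply hz1
      apply Subtype.ext
      have : (z : ↥N) = g⁻¹ * (g * (z : ↥N) * g⁻¹) * g := by group
      rw [this, h]; simp
    · exact h
  have hpush : ∀ n m : ↥N, (∃ g : ↥N, g * n * g⁻¹ = m) → R (ι n) (ι m) ∧ R (t * ι n) (t * ι m) := by
    rintro n m ⟨g, rfl⟩
    refine ⟨⟨ι g, by simp⟩, ⟨ι g, ?_⟩⟩
    rw [map_mul, map_mul, map_inv]
    calc ι g * (t * ι n) * (ι g)⁻¹ = (ι g * t) * ι n * (ι g)⁻¹ := by group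
      _ = (t * ι g) * ι n * (ι g)⁻¹ := by rw [hιt g]
      _ = t * (ι g * ι n * (ι g)⁻¹) := by group
  have hyx := hpush _ _ (hN1 y hy1 hxy.symm)
  have hxyx := hpush _ _ (hN1 (x * y) hxy1 (by
    intro h
    apply hy1
    calc y = (x * x) * y := by rw [hxx, one_mul]
      _ = x * (x * y) := by group
      _ = 1 := by rw [h, hxx]))
  have hzv : ∀ z : ↥(PN : Subgroup N), z ≠ 1 → R (ι z) (ι x) := by
    intro z hz
    rcases hall z with rfl | rfl | rfl | rfl
    · exact hxyx.1
    · exact ⟨1, by simp⟩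
    · exact hyx.1
    · exact absurd rfl hz
  -- Thompson transfer inside `G`
  have hιV : ∀ z : ↥(PN : Subgroup N), ι z ∈ V := fun z => ⟨z, z.2, rfl⟩
  have h4G : 4 ∣ Nat.card G := by
    have h1 := Subgroup.card_subgroup_dvd_card V
    have h2 : Nat.card V = 4 := by
      rw [Subgroup.card_map_of_injective hι, IsKleinFour.card_four]
    rwa [h2] at h1
  have hVi : V.relIndex (S1 : Subgroup G) = 2 := by
    rw [relIndex_eq_two_iff]
    refine ⟨t, htS, fun b hb => ?_⟩
    obtain ⟨a, ha, z, rfl⟩ := hdec b hb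
    rcases mem_zpowers_two htt ha with h0 | h0 <;> rw [h0]
    · right
      refine ⟨by rw [one_mul]; exact hιV z, fun h => htV ?_⟩
      rw [one_mul] at h
      have := mul_mem (inv_mem (hιV z)) h
      simpa using this
    · left
      refine ⟨?_, fun h => htV ?_⟩
      · have : t * ι z * t = ι z := by
          rw [hιt z, mul_assoc, htt, mul_one]
        rw [this]; exact hιV z
      · have := mul_mem h (inv_mem (hιV z))
        simpa using this
  have hG1 : ∀ u : G, orderOf u = 2 → u ∈ (S1 : Subgroup G) → u ∉ V → R u (ι x) := by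
    intro u hu huS huV
    obtain ⟨g, n, hn, hg⟩ := thompson_simple h4G S1 V hVS hVi u hu huS huV
    have h1 : R u (ι (⟨n, hn⟩ : ↥(PN : Subgroup N))) := ⟨g, hg.symm⟩
    refine h1.trans (hzv _ ?_)
    intro h
    have hn1 : n = 1 := congrArg Subtype.val h
    rw [hn1, map_one] at hg
    have : u = 1 := by
      have e : u = g⁻¹ * (g * u * g⁻¹) * g := by group
      rw [e, ← hg]; simp
    rw [this, orderOf_one] at hu
    omega
  have htv : R t (ι x) := hG1 t ht htS htV
  have htxv : R (t * ι x) (ι x) := by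
    refine hG1 _ ?_ (mul_mem htS (hVS (hιV x))) ?_
    · refine orderOf_eq_prime ?_ ?_
      · rw [pow_two]
        calc t * ι x * (t * ι x) = t * (ι x * t) * ι x := by group
          _ = t * (t * ι x) * ι x := by rw [hιt x]
          _ = (t * t) * (ι x * ι x) := by group
          _ = 1 := by rw [htt, ← map_mul, hxx']; simp
      · intro h
        apply htV
        have : t = (ι x)⁻¹ := eq_inv_of_mul_eq_one_left h
        rw [this]; exact inv_mem (hιV x)
    · intro h
      apply htV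
      have := mul_mem h (inv_mem (hιV x))
      simpa using this
  refine ⟨ι x, ι y, ?_, ?_⟩
  · intro s hs
    simp only [List.mem_cons, List.not_mem_nil, or_false] at hs
    have hmul : ι x * ι y = ι ((x * y : ↥(PN : Subgroup N)) : ↥N) := by
      rw [Subgroup.coe_mul, map_mul]
    rcases hs with rfl | rfl | rfl | rfl | rfl | rfl
    · exact htv
    · exact htv.trans hyx.1.symm
    · exact htv.trans htxv.symm
    · exact (htv.trans htxv.symm).trans hyx.2.symm
    · rw [hmul]; exact htv.trans hxyx.1.symm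
    · rw [hmul]; exact (htv.trans htxv.symm).trans hxyx.2.symm
  · have hle : (S1 : Subgroup G) ≤ closure ({t, ι x, ι y} : Set G) := by
      intro s hs
      obtain ⟨a, ha, z, rfl⟩ := hdec s hs
      have h1 : t ∈ closure ({t, ι x, ι y} : Set G) := subset_closure (by simp)
      have h2 : ι x ∈ closure ({t, ι x, ι y} : Set G) := subset_closure (by simp)
      have h3 : ι y ∈ closure ({t, ι x, ι y} : Set G) := subset_closure (by simp)
      refine mul_mem (zpowers_le.2 h1 ha) ?_
      rcases hall z with rfl | rfl | rfl | rfl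
      · rw [Subgroup.coe_mul, map_mul]; exact mul_mem h2 h3
      · exact h2
      · exact h3
      · simp
    have hd := index_dvd_of_le hle
    have hnd := S1.not_dvd_index
    rw [← Nat.not_even_iff_odd, even_iff_two_dvd]
    exact fun h => hnd (dvd_trans h hd)

theorem kleinFour_of_psl {G : Type*} [Group G] [Finite G]
    (hab : ∀ S : Sylow 2 G, IsMulCommutative ↥(S : Subgroup G))
    {F : Type*} [Field F] [Fintype F] (hFo : Odd (Fintype.card F))
    {K : Type*} [Group K] (e : K ≃* Matrix.ProjectiveSpecialLinearGroup (Fin 2) F)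
    (ι : K →* G) (hι : Function.Injective ι) (P : Sylow 2 K) :
    IsKleinFour ↥(P : Subgroup K) := by
  have hq : Fintype.card F % 8 = 3 ∨ Fintype.card F % 8 = 5 := by
    by_contra hcon
    have hodd : Fintype.card F % 2 = 1 := Nat.odd_iff.1 hFo
    obtain ⟨c, i, hc, hi, hic, hc2⟩ := exists_d8 (F := F) (by omega)
    let ψ : Matrix.ProjectiveSpecialLinearGroup (Fin 2) F →* G := ι.comp e.symm.toMonoidHom
    have hψ : Function.Injective ψ := hι.comp e.symm.injective
    have h := sq_eq_one_of_inverted hab (ψ c) (ψ i) (by rw [← map_pow, hc, map_one])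
      (by rw [← map_pow, hi, map_one]) (by rw [← map_inv, ← map_inv, ← map_mul, ← map_mul, hic])
    rw [← map_pow, ← map_one ψ] at h
    exact hc2 (hψ h)
  let P' : Sylow 2 (Matrix.ProjectiveSpecialLinearGroup (Fin 2) F) :=
    P.comapOfInjective e.symm.toMonoidHom e.symm.injective (by
      intro x _
      exact ⟨e x, by simp⟩)
  have hK : IsKleinFour ↥(P' : Subgroup (Matrix.ProjectiveSpecialLinearGroup (Fin 2) F)) :=
    Cfsg.Agent.S0276.result rfl hq P'
  let φ : ↥(P : Subgroup K) ≃* ↥(P' : Subgroup (Matrix.ProjectiveSpecialLinearGroup (Fin 2) F)) :=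
    { toFun := fun z => ⟨e z, by
        show e.symm (e z) ∈ (P : Subgroup K)
        rw [MulEquiv.symm_apply_apply]; exact z.2⟩
      invFun := fun z => ⟨e.symm z, z.2⟩
      left_inv := fun z => Subtype.ext (by simp)
      right_inv := fun z => Subtype.ext (by simp)
      map_mul' := fun a b => Subtype.ext (by simp) }
  exact ⟨by rw [Nat.card_congr φ.toEquiv]; exact IsKleinFour.card_four,
    by rw [Monoid.exponent_eq_of_mulEquiv φ]; exact IsKleinFour.exponent_two⟩

/-- No nontrivial perfect central extension by a 2-group. -/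
theorem no_cover {G : Type u} [Group G] [Finite G] (t v w : G) (htt : t * t = 1)
    (hconj : ∀ s ∈ [v, w, t * v, t * w, v * w, t * (v * w)], ∃ g, g * t * g⁻¹ = s)
    (hodd : Odd (closure ({t, v, w} : Set G)).index)
    (L : Type v) [Group L] [Finite L] (Z : Subgroup L) [Z.Normal] (hL : commutator L = ⊤)
    (hZ : Z ≤ center L) (hZ2 : IsPGroup 2 ↥Z) (f : L ⧸ Z ≃* G) : Z = ⊥ := by
  have : Fact (Nat.Prime 2) := ⟨Nat.prime_two⟩
  have lsu : LS t := LS.pure t v w htt hconj
  have ls : ∀ s ∈ [v, w, t * v, t * w, v * w, t * (v * w)], LS s := by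
    intro s hs
    obtain ⟨g, rfl⟩ := hconj s hs
    exact LS.conj g t lsu
  let σ : L →* G := f.toMonoidHom.comp (QuotientGroup.mk' Z)
  have hker : σ.ker = Z := by
    ext x
    rw [MonoidHom.mem_ker]
    show f (QuotientGroup.mk x) = 1 ↔ _
    rw [map_eq_one_iff f f.injective, QuotientGroup.eq_one_iff]
  have hσ : IsStemExtension σ := by
    refine ⟨f.surjective.comp (QuotientGroup.mk'_surjective Z), ?_, ?_⟩
    · rw [hker]; exact hZ
    · rw [hL]; exact le_top
  obtain ⟨k, hk⟩ := IsPGroup.iff_card.1 hZ2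
  have key := eq_one_of_sqrt σ.ker
    (exists_sqrt_of_exp2' (fun Γ' _ _ σ' hσ' h2 z hz =>
      EA3_main σ' hσ' h2 t v w lsu (ls v (by simp)) (ls w (by simp)) (ls _ (by simp))
        (ls (t * w) (by simp)) (ls (v * w) (by simp)) _ hodd rfl z hz) L σ hσ) k (by
      intro z hz
      rw [hker] at hz
      have := pow_card_eq_one' (x := (⟨z, hz⟩ : ↥Z))
      rw [hk] at this
      exact congrArg Subtype.val this)
  rw [eq_bot_iff]
  intro z hz
  rw [mem_bot]
  exact key z (by rw [hker]; exact hz)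

end Cfsg.Agent.Lib.Helper9.JR
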