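import Cfsg.Prelude.Def_Sporadic_a
import Cfsg.Agent.Lib.Helper10.Golay

set_option autoImplicit false

namespace Cfsg.Agent.Lib.Helper9

open Cfsg Cfsg.Agent.Lib.Helper10

/-- Reduction modulo 2 of an integer vector. -/
def red2 (z : GolayPt → ℤ) : GolayPt → ZMod 2 := fun i => (z i : ZMod 2)

theorem red2_add (z z' : GolayPt → ℤ) : red2 (z + z') = red2 z + red2 z' := by
  funext i; simp [red2]

theorem red2_neg (z : GolayPt → ℤ) : red2 (-z) = - red2 z := by
  funext i; simp [red2]

theorem red2_zero : red2 0 = 0 := by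
  funext i; simp [red2]

theorem red2_ne_zero_iff (z : GolayPt → ℤ) (i : GolayPt) : red2 z i ≠ 0 ↔ z i % 2 = 1 := by
  unfold red2
  rw [Ne, ZMod.intCast_zmod_eq_zero_iff_dvd]
  omega

theorem one_mem_golay : (1 : GolayPt → ZMod 2) ∈ golayCode :=
  Submodule.subset_span (Or.inr rfl)

theorem mem_leechSet_iff (x : GolayPt → ℤ) : x ∈ leechSet ↔
    ∃ (m : ℤ) (z : GolayPt → ℤ), (∀ i, x i = m + 2 * z i) ∧ (∑ i, x i ≡ 4 * m [ZMOD 8]) ∧
      red2 z ∈ golayCode := by
  constructor
  · rintro ⟨m, h2, h8, hk⟩
    refine ⟨m, fun i => (x i - m) / 2, fun i => ?_, h8, ?_⟩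
    · have := h2 i
      unfold Int.ModEq at this
      show x i = m + 2 * ((x i - m) / 2)
      omega
    · have h := hk (m + 2)
      have hEq : (Finset.univ.filter fun i => x i ≡ m + 2 [ZMOD 4]) =
          support₂ (red2 fun i => (x i - m) / 2) := by
        ext i
        simp only [support₂, Finset.mem_filter, Finset.mem_univ, true_and]
        rw [red2_ne_zero_iff]
        have := h2 i
        unfold Int.ModEq at this ⊢
        omega
      rw [hEq, mem_supports_iff, ind_support₂] at h
      exact h
  · rintro ⟨m, z, hx, h8, hz⟩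
    refine ⟨m, fun i => ?_, h8, fun k => ?_⟩
    · rw [hx i]; unfold Int.ModEq; omega
    · rcases (by omega : (k - m) % 4 = 0 ∨ (k - m) % 4 = 2 ∨ (k - m) % 2 = 1) with h | h | h
      · refine ⟨red2 z + 1, golayCode.add_mem hz one_mem_golay, ?_⟩
        ext i
        simp only [support₂, Finset.mem_filter, Finset.mem_univ, true_and, Pi.add_apply,
          Pi.one_apply]
        have h1 := red2_ne_zero_iff z i
        have h2 : red2 z i = 0 ∨ red2 z i = 1 := by
          generalize red2 z i = a; revert a; decide
        rw [hx i]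
        unfold Int.ModEq
        rcases h2 with h2 | h2
        · rw [h2] at h1 ⊢
          simp only [ne_eq, not_true_eq_false, false_iff] at h1
          simp only [zero_add, ne_eq, one_ne_zero, not_false_eq_true, true_iff]
          omega
        · rw [h2] at h1 ⊢
          simp only [ne_eq, one_ne_zero, not_false_eq_true, true_iff] at h1
          have : (1 + 1 : ZMod 2) = 0 := by decide
          simp only [this, ne_eq, not_true_eq_false, false_iff]
          omega
      · refine ⟨red2 z, hz, ?_⟩
        ext i
        simp only [support₂, Finset.mem_filter, Finset.mem_univ, true_and]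
        rw [red2_ne_zero_iff, hx i]
        unfold Int.ModEq
        omega
      · refine ⟨0, golayCode.zero_mem, ?_⟩
        ext i
        simp only [support₂, Finset.mem_filter, Finset.mem_univ, true_and, Pi.zero_apply, ne_eq,
          not_true_eq_false, false_iff]
        rw [hx i]
        unfold Int.ModEq
        omega

theorem leechSet_zero : (0 : GolayPt → ℤ) ∈ leechSet := by
  rw [mem_leechSet_iff]
  exact ⟨0, 0, fun i => by simp, by simp [Int.ModEq], by rw [red2_zero]; exact golayCode.zero_mem⟩

theorem leechSet_add {x y : GolayPt → ℤ} (hx : x ∈ leechSet) (hy : y ∈ leechSet) :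
    x + y ∈ leechSet := by
  rw [mem_leechSet_iff] at hx hy ⊢
  obtain ⟨m, z, h1, h2, h3⟩ := hx
  obtain ⟨m', z', h1', h2', h3'⟩ := hy
  refine ⟨m + m', z + z', fun i => ?_, ?_, ?_⟩
  · simp only [Pi.add_apply, h1 i, h1' i]; ring
  · simp only [Pi.add_apply, Finset.sum_add_distrib]
    have := h2.add h2'
    rwa [← mul_add] at this
  · rw [red2_add]; exact golayCode.add_mem h3 h3'

theorem leechSet_neg {x : GolayPt → ℤ} (hx : x ∈ leechSet) : -x ∈ leechSet := by
  rw [mem_leechSet_iff] at hx ⊢
  obtain ⟨m, z, h1, h2, h3⟩ := hx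
  refine ⟨-m, -z, fun i => ?_, ?_, ?_⟩
  · simp only [Pi.neg_apply, h1 i]; ring
  · simp only [Pi.neg_apply, Finset.sum_neg_distrib]
    have := h2.neg
    rwa [← mul_neg] at this
  · rw [red2_neg]; exact golayCode.neg_mem h3

/-- `leechSet` as an additive subgroup. -/
def leechSub : AddSubgroup (GolayPt → ℤ) where
  carrier := leechSet
  zero_mem' := leechSet_zero
  add_mem' := leechSet_add
  neg_mem' := leechSet_neg

theorem leechLattice_eq : leechLattice = leechSub := by
  apply le_antisymm
  · exact (AddSubgroup.closure_le _).2 (fun x hx => hx)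
  · exact fun x hx => AddSubgroup.subset_closure hx

theorem mem_leechLattice_iff_mem_leechSet (x : GolayPt → ℤ) : x ∈ leechLattice ↔ x ∈ leechSet := by
  rw [leechLattice_eq]; rfl

end Cfsg.Agent.Lib.Helper9
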