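import Cfsg.Agent.Lib.Helper9.M24Chain
import Cfsg.Agent.Lib.Helper33.OctData

set_option autoImplicit false

namespace Cfsg.Agent.Lib.Helper9

open Cfsg Cfsg.Agent.Lib.Helper33
open scoped Pointwise

/-- Table of the sixteen elements of `M24` fixing the base octad `0x82402f` pointwise; entry `q`
maps the point `4` to `q`. -/
def octE : ℕ := 0xb926faa22da3a0b6255231cb618820bcc8cb2a265b8f47c9096c0b518820bbd8459e29b39559b606920b418820bd6cb22627638cfa224a834b318820ba1474922b3398d85676a3cb218820000000000000000000000000000000bb4c93ae2453ac893e8c9d4b018820bd17661a2a23933ac1a7448af18820000000000000000000000000000000bc0ea332364b892451ebaccad18820bae957b6289ba44b1cd0524ac18820bb1f3a4232ab916218ed4a8ab18820ba64d4562f83a87312d362caa18820ba91094e346b9e63d8955b0a918820bc92655a2c3b9706cea47d0a818820b99b28523343aaa4b16f258a718820b9e086be3593a6952d94b10a618820000000000000000000000000000000bdab49ca307b9ac5a928398a418820000000000000000000000000000000000000000000000000000000000000000000000000000000000000000000000000000000000000000000000000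

noncomputable def octEOK : Bool :=
  allBelow (fun q => Bool.rec true
    (inM24 (fldP octE q) && (Nat.beq (fld5 (fldP octE q) 4) q &&
      (([17, 14, 5, 3, 2, 1, 0, 23] : List ℕ).all (fun i => Nat.beq (fld5 (fldP octE q) i) i) &&
        allBelow (fun i => Nat.beq (fld5 (fldP octE q) (fld5 (fldP octE q) i)) i) 24)))
    (Nat.testBit 0x7dbfd0 q)) 24

theorem octEOK_true : octEOK = true := by decide +kernel

theorem octE_spec : ∀ q < 24, (0x7dbfd0 : ℕ).testBit q = true →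
    permOf (fldP octE q) ∈ fixL M24 [17, 14, 5, 3, 2, 1, 0, 23] ∧
    permOf (fldP octE q) (pt 4) = pt q ∧ permOf (fldP octE q) * permOf (fldP octE q) = 1 := by
  have h := octEOK_true
  rw [octEOK, allBelow_iff] at h
  intro q hq hD
  have := h q hq
  rw [hD] at this
  simp only [Bool.and_eq_true, List.all_eq_true] at this
  obtain ⟨h1, h2, h3, h4⟩ := this
  rw [allBelow_iff] at h4
  have hp := isPerm_of_inM24 h1
  refine ⟨⟨permOf_mem_M24 h1, fun i hi => ?_⟩, ?_, ?_⟩
  · have hi24 : i < 24 := by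
      simp only [List.mem_cons, List.not_mem_nil, or_false] at hi
      omega
    rw [permOf_apply hp, idx_pt hi24, Nat.eq_of_beq_eq_true (h3 i hi)]
  · rw [permOf_apply hp, idx_pt (by decide), Nat.eq_of_beq_eq_true h2]
  · ext1 p
    rw [Equiv.Perm.mul_apply, permOf_apply hp, permOf_apply hp, idx_pt (isPerm_lt hp (idx_lt p)),
      Nat.eq_of_beq_eq_true (h4 _ (idx_lt p)), pt_idx, Equiv.Perm.one_apply]

theorem fixL_mono {H : Subgroup (Equiv.Perm GolayPt)} {l l' : List ℕ} (h : ∀ i ∈ l', i ∈ l) :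
    fixL H l ≤ fixL H l' := fun _ hg => ⟨hg.1, fun i hi => hg.2 i (h i hi)⟩

theorem octE_U : ∀ g ∈ fixL M24 [17, 14, 5, 3, 2, 1, 0, 23],
    (0x7dbfd0 : ℕ).testBit (idx (g (pt 4))) = true := fun g hg =>
  m24_U6 g (fixL_mono (by decide) hg)

theorem octE_bot : fixL M24 [4, 17, 14, 5, 3, 2, 1, 0, 23] = ⊥ := by
  rw [eq_bot_iff, ← m24_U8]
  exact fixL_mono (by decide)

theorem card_octE : Nat.card (fixL M24 [17, 14, 5, 3, 2, 1, 0, 23]) = 16 := by
  rw [card_fixL_step M24 _ 4 0x7dbfd0 (by decide) octE_U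
    (fun q hq hD => ⟨_, (octE_spec q hq hD).1, (octE_spec q hq hD).2.1⟩), octE_bot,
    Subgroup.card_bot]
  decide +kernel

theorem octE_sq : ∀ g ∈ fixL M24 [17, 14, 5, 3, 2, 1, 0, 23], g * g = 1 := by
  intro g hg
  obtain ⟨h1, h2, h3⟩ := octE_spec _ (idx_lt _) (octE_U g hg)
  rw [pt_idx] at h2
  set t := permOf (fldP octE (idx (g (pt 4)))) with ht
  have h4 : t⁻¹ * g ∈ fixL M24 [4, 17, 14, 5, 3, 2, 1, 0, 23] := by
    rw [fixL_cons, Subgroup.mem_inf]
    refine ⟨Subgroup.mul_mem _ (Subgroup.inv_mem _ h1) hg, ?_⟩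
    rw [MulAction.mem_stabilizer_iff, Equiv.Perm.smul_def, Equiv.Perm.mul_apply,
      Equiv.Perm.inv_eq_iff_eq, h2]
  rw [octE_bot, Subgroup.mem_bot, inv_mul_eq_one] at h4
  rw [← h4]; exact h3

theorem O0_mem : unmask 0x82402f ∈ octads :=
  (unmask_mem_octads_iff (by decide)).2 (by decide +kernel)

theorem mem_O0 : ∀ p : GolayPt, p ∈ unmask 0x82402f ↔
    ∃ i ∈ ([17, 14, 5, 3, 2, 1, 0, 23] : List ℕ), p = pt i := by decide

theorem oct_to_base {o : Finset GolayPt} (ho : o ∈ octads) :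
    ∃ u ∈ M24, u • o = unmask 0x82402f := by
  obtain ⟨a, ha⟩ := oct_rank.trans o ho
  obtain ⟨b, hb⟩ := oct_rank.trans _ O0_mem
  exact ⟨(b⁻¹ * a : M24), (b⁻¹ * a).2, by
    show (b⁻¹ * a) • o = _
    rw [mul_smul, ha, ← hb, inv_smul_smul]⟩

theorem octfix_conj {o : Finset GolayPt} {u : Equiv.Perm GolayPt} (hu : u ∈ M24)
    (huo : u • o = unmask 0x82402f) (g : Equiv.Perm GolayPt) :
    g ∈ M24 ⊓ fixingSubgroup (Equiv.Perm GolayPt) (o : Set GolayPt) ↔
      u * g * u⁻¹ ∈ fixL M24 [17, 14, 5, 3, 2, 1, 0, 23] := by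
  rw [Subgroup.mem_inf, mem_fixingSubgroup_iff, mem_fixL]
  constructor
  · rintro ⟨h1, h2⟩
    refine ⟨M24.mul_mem (M24.mul_mem hu h1) (M24.inv_mem hu), fun i hi => ?_⟩
    have h3 : pt i ∈ u • o := by rw [huo, mem_O0]; exact ⟨i, hi, rfl⟩
    obtain ⟨y, hy, hyi⟩ := Finset.mem_smul_finset.1 h3
    have h4 : u⁻¹ (pt i) = y := by rw [Equiv.Perm.inv_eq_iff_eq, ← hyi]; rfl
    have h5 : g y = y := h2 y hy
    rw [Equiv.Perm.mul_apply, Equiv.Perm.mul_apply, h4, h5, ← hyi]; rfl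
  · rintro ⟨h1, h2⟩
    refine ⟨?_, fun y hy => ?_⟩
    · have := M24.mul_mem (M24.mul_mem (M24.inv_mem hu) h1) hu
      have h3 : u⁻¹ * (u * g * u⁻¹) * u = g := by group
      rwa [h3] at this
    · have h3 : u y ∈ u • o := Finset.smul_mem_smul_finset (a := u) hy
      rw [huo, mem_O0] at h3
      obtain ⟨i, hi, h4⟩ := h3
      have h5 := h2 i hi
      have h6 : u⁻¹ (u y) = y := by rw [Equiv.Perm.inv_eq_iff_eq]
      rw [← h4, Equiv.Perm.mul_apply, Equiv.Perm.mul_apply, h6] at h5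
      exact u.injective h5

/-- The pointwise stabilizer of an octad in `M24` has order 16 and exponent 2. -/
theorem octfix_main (o : Finset GolayPt) (ho : o ∈ octads) :
    Nat.card ↥(M24 ⊓ fixingSubgroup (Equiv.Perm GolayPt) (o : Set GolayPt)) = 16 ∧
    ∀ g ∈ M24 ⊓ fixingSubgroup (Equiv.Perm GolayPt) (o : Set GolayPt), g * g = 1 := by
  obtain ⟨u, hu, huo⟩ := oct_to_base ho
  constructor
  · rw [← card_octE]
    refine Nat.card_congr ⟨fun g => ⟨u * g.1 * u⁻¹, (octfix_conj hu huo g.1).1 g.2⟩,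
      fun t => ⟨u⁻¹ * t.1 * u, (octfix_conj hu huo _).2 (by
        have : u * (u⁻¹ * t.1 * u) * u⁻¹ = t.1 := by group
        rw [this]; exact t.2)⟩, fun g => ?_, fun t => ?_⟩
    · apply Subtype.ext
      show u⁻¹ * (u * g.1 * u⁻¹) * u = g.1
      group
    · apply Subtype.ext
      show u * (u⁻¹ * t.1 * u) * u⁻¹ = t.1
      group
  · intro g hg
    have h1 := octE_sq _ ((octfix_conj hu huo g).1 hg)
    have h2 : u * g * u⁻¹ * (u * g * u⁻¹) = u * (g * g) * u⁻¹ := by group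
    rw [h2, mul_inv_eq_one, mul_eq_left] at h1
    exact h1

end Cfsg.Agent.Lib.Helper9
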