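import Mathlib

set_option autoImplicit false
set_option linter.unusedSectionVars false

/-!
The Parker cocycle of a doubly even binary code `A`: a function `ph : A → A → ZMod 2`, additive in
the first variable, with `ph d d = |d|/4`, `ph d e + ph e d = |d ∩ e|/2` and
`ph x (e + f) = ph x e + ph x f + |x ∩ e ∩ f|`.  Consequently, for every weight preserving additive
automorphism `g` of `A` there is `q : A → ZMod 2` with
`q (d + e) + q d + q e = ph (g d) (g e) + ph d e`.
-/

namespace Cfsg.Agent.Lib.Helper9.Parker

section weights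

variable {α : Type*} [Fintype α]

/-- the weight of a binary word -/
def wt (u : α → ZMod 2) : ℕ := ∑ j, (u j).val
def hh (u : α → ZMod 2) : ZMod 2 := ((wt u / 2 : ℕ) : ZMod 2)
def kk (u : α → ZMod 2) : ZMod 2 := ((wt u / 4 : ℕ) : ZMod 2)

theorem wt_add (u v : α → ZMod 2) : wt (u + v) + 2 * wt (u * v) = wt u + wt v := by
  unfold wt
  rw [Finset.mul_sum, ← Finset.sum_add_distrib, ← Finset.sum_add_distrib]
  apply Finset.sum_congr rfl
  intro j _
  simp only [Pi.add_apply, Pi.mul_apply]
  generalize u j = a
  generalize v j = b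
  revert a b
  decide

theorem wt_cast (u : α → ZMod 2) : ((wt u : ℕ) : ZMod 2) = ∑ j, u j := by
  unfold wt
  push_cast
  apply Finset.sum_congr rfl
  intro j _
  exact ZMod.natCast_zmod_val _

theorem add_self2 (a : ZMod 2) : a + a = 0 := CharTwo.add_self_eq_zero a

theorem hh_add {u v : α → ZMod 2} (hu : Even (wt u)) (hv : Even (wt v)) :
    hh (u + v) = hh u + hh v + ∑ j, u j * v j := by
  have h := wt_add u v
  have e : wt (u + v) / 2 + wt (u * v) = wt u / 2 + wt v / 2 := by
    obtain ⟨a, ha⟩ := hu
    obtain ⟨b, hb⟩ := hv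
    omega
  have e2 : hh (u + v) + ((wt (u * v) : ℕ) : ZMod 2) = hh u + hh v := by
    unfold hh
    exact_mod_cast congrArg (Nat.cast : ℕ → ZMod 2) e
  rw [wt_cast] at e2
  have e3 : ∑ j, (u * v) j = ∑ j, u j * v j := rfl
  rw [e3] at e2
  rw [← e2, add_assoc, add_self2, add_zero]

theorem kk_add {u v : α → ZMod 2} (hu : 4 ∣ wt u) (hv : 4 ∣ wt v) (huv : 4 ∣ wt (u + v)) :
    kk (u + v) = kk u + kk v + hh (u * v) := by
  have h := wt_add u v
  have e : wt (u + v) / 4 + wt (u * v) / 2 = wt u / 4 + wt v / 4 := by
    obtain ⟨a, ha⟩ := hu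
    obtain ⟨b, hb⟩ := hv
    obtain ⟨c, hc⟩ := huv
    omega
  have e2 : kk (u + v) + hh (u * v) = kk u + kk v := by
    unfold hh kk
    exact_mod_cast congrArg (Nat.cast : ℕ → ZMod 2) e
  rw [← e2, add_assoc, add_self2, add_zero]

theorem hh_eq_zero {u : α → ZMod 2} (hu : 4 ∣ wt u) : hh u = 0 := by
  obtain ⟨a, ha⟩ := hu
  unfold hh
  have : wt u / 2 = 2 * a := by omega
  rw [this]
  push_cast
  have : (2 : ZMod 2) = 0 := by decide
  rw [this, zero_mul]

theorem mul_self2 (u : α → ZMod 2) : u * u = u := by
  funext j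
  simp only [Pi.mul_apply]
  generalize u j = a
  revert a
  decide

end weights

section code

variable {α : Type*} [Fintype α] {A : Submodule (ZMod 2) (α → ZMod 2)}
  {ι : Type*} [Fintype ι] [LinearOrder ι] (B : Module.Basis ι (ZMod 2) A)

theorem add_zero_of_basis (f : A → ZMod 2) (h1 : ∀ d d', f (d + d') = f d + f d')
    (h0 : ∀ i, f (B i) = 0) : ∀ d, f d = 0 := by
  intro d
  let F : A →+ ZMod 2 := AddMonoidHom.mk' f h1
  have : (F.toZModLinearMap 2) = 0 := B.ext (fun i => h0 i)
  exact DFunLike.congr_fun this d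

theorem biadd_zero (κ : A → A → ZMod 2) (h1 : ∀ d d' e, κ (d + d') e = κ d e + κ d' e)
    (h2 : ∀ d e e', κ d (e + e') = κ d e + κ d e') (h0 : ∀ i j, κ (B i) (B j) = 0) :
    ∀ d e, κ d e = 0 := by
  intro d e
  refine add_zero_of_basis B (fun d => κ d e) (fun d d' => h1 d d' e) (fun i => ?_) d
  exact add_zero_of_basis B (fun e => κ (B i) e) (fun e e' => h2 (B i) e e') (fun j => h0 i j) e

noncomputable def cc (i j : ι) : ZMod 2 :=
  if i = j then kk (B i : α → ZMod 2)
  else if i < j then hh ((B i : α → ZMod 2) * (B j : α → ZMod 2)) else 0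

noncomputable def FF (i : ι) (e : A) : ZMod 2 :=
  hh ((B i : α → ZMod 2) * (e : α → ZMod 2)) + ∑ j, cc B i j * B.repr e j

/-- the cocycle -/
noncomputable def ph (d e : A) : ZMod 2 := ∑ i, B.repr d i * FF B i e

theorem ph_add_left (d d' e : A) : ph B (d + d') e = ph B d e + ph B d' e := by
  unfold ph
  rw [← Finset.sum_add_distrib]
  apply Finset.sum_congr rfl
  intro i _
  rw [map_add, Finsupp.add_apply, add_mul]

theorem ph_basis (i : ι) (e : A) : ph B (B i) e = FF B i e := by
  unfold ph
  rw [Finset.sum_eq_single i]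
  · rw [Module.Basis.repr_self, Finsupp.single_eq_same, one_mul]
  · intro k _ hk
    rw [Module.Basis.repr_self, Finsupp.single_eq_of_ne hk, zero_mul]
  · intro h
    exact absurd (Finset.mem_univ i) h

theorem FF_basis (i j : ι) :
    FF B i (B j) = hh ((B i : α → ZMod 2) * (B j : α → ZMod 2)) + cc B i j := by
  unfold FF
  congr 1
  rw [Finset.sum_eq_single j]
  · rw [Module.Basis.repr_self, Finsupp.single_eq_same, mul_one]
  · intro k _ hk
    rw [Module.Basis.repr_self, Finsupp.single_eq_of_ne hk, mul_zero]
  · intro h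
    exact absurd (Finset.mem_univ j) h

theorem coe_eq_sum (x : A) (j : α) : (x : α → ZMod 2) j = ∑ i, B.repr x i * (B i : α → ZMod 2) j := by
  have h := congrArg (fun y : A => (y : α → ZMod 2) j) (B.sum_repr x)
  simp only [Submodule.coe_sum, Finset.sum_apply, Submodule.coe_smul, Pi.smul_apply,
    smul_eq_mul] at h
  exact h.symm

include B in
/-- an alternating form over the field with two elements is the polarisation of a quadratic form -/
theorem exists_quad (ψ : A → A → ZMod 2) (h1 : ∀ d d' e, ψ (d + d') e = ψ d e + ψ d' e)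
    (hs : ∀ d e, ψ d e = ψ e d) (h0 : ∀ d, ψ d d = 0) :
    ∃ q : A → ZMod 2, ∀ d e, q (d + e) + q d + q e = ψ d e := by
  let m : ι → ι → ZMod 2 := fun i j => if i < j then ψ (B i) (B j) else 0
  let β : A → A → ZMod 2 := fun d e => ∑ i, ∑ j, m i j * (B.repr d i * B.repr e j)
  have b1 : ∀ d d' e, β (d + d') e = β d e + β d' e := by
    intro d d' e
    show ∑ i, ∑ j, m i j * (B.repr (d + d') i * B.repr e j) = _
    rw [← Finset.sum_add_distrib]
    apply Finset.sum_congr rfl
    intro i _
    rw [← Finset.sum_add_distrib]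
    apply Finset.sum_congr rfl
    intro j _
    rw [map_add, Finsupp.add_apply]
    ring
  have b2 : ∀ d e e', β d (e + e') = β d e + β d e' := by
    intro d e e'
    show ∑ i, ∑ j, m i j * (B.repr d i * B.repr (e + e') j) = _
    rw [← Finset.sum_add_distrib]
    apply Finset.sum_congr rfl
    intro i _
    rw [← Finset.sum_add_distrib]
    apply Finset.sum_congr rfl
    intro j _
    rw [map_add, Finsupp.add_apply]
    ring
  have bb : ∀ k l, β (B k) (B l) = m k l := by
    intro k l
    show ∑ i, ∑ j, m i j * (B.repr (B k) i * B.repr (B l) j) = _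
    rw [Finset.sum_eq_single k]
    · rw [Finset.sum_eq_single l]
      · rw [Module.Basis.repr_self, Module.Basis.repr_self, Finsupp.single_eq_same,
          Finsupp.single_eq_same, mul_one, mul_one]
      · intro j _ hj
        rw [Module.Basis.repr_self (i := l), Finsupp.single_eq_of_ne hj, mul_zero, mul_zero]
      · intro h
        exact absurd (Finset.mem_univ l) h
    · intro i _ hi
      apply Finset.sum_eq_zero
      intro j _
      rw [Module.Basis.repr_self (i := k), Finsupp.single_eq_of_ne hi, zero_mul, mul_zero]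
    · intro h
      exact absurd (Finset.mem_univ k) h
  have h2 : ∀ d e e', ψ d (e + e') = ψ d e + ψ d e' := by
    intro d e e'
    rw [hs, h1, hs e, hs e']
  have key : ∀ d e, β d e + β e d + ψ d e = 0 := by
    refine biadd_zero B (fun d e => β d e + β e d + ψ d e) ?_ ?_ ?_
    · intro d d' e
      show β (d + d') e + β e (d + d') + ψ (d + d') e = _
      rw [b1, b2, h1]; ring
    · intro d e e'
      show β d (e + e') + β (e + e') d + ψ d (e + e') = _
      rw [b1, b2, h2]; ring
    · intro i j
      show β (B i) (B j) + β (B j) (B i) + ψ (B i) (B j) = 0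
      rw [bb, bb]
      rcases lt_trichotomy i j with h | h | h
      · simp only [m, if_pos h, if_neg h.not_gt, add_zero]
        exact add_self2 _
      · subst h
        simp only [m, lt_irrefl, if_false, h0, add_zero]
      · simp only [m, if_pos h, if_neg h.not_gt, zero_add]
        rw [hs (B j)]
        exact add_self2 _
  refine ⟨fun d => β d d, fun d e => ?_⟩
  show β (d + e) (d + e) + β d d + β e e = ψ d e
  rw [b1, b2, b2]
  have k := key d e
  have a1 := add_self2 (β d d)
  have a2 := add_self2 (β e e)
  have a3 := add_self2 (ψ d e)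
  linear_combination k + a1 + a2 - a3

variable (hA : ∀ u ∈ A, 4 ∣ wt u)
include hA

theorem even_mul (u v : A) : Even (wt ((u : α → ZMod 2) * (v : α → ZMod 2))) := by
  have h := wt_add (u : α → ZMod 2) (v : α → ZMod 2)
  obtain ⟨a, ha⟩ := hA _ u.2
  obtain ⟨b, hb⟩ := hA _ v.2
  obtain ⟨c, hc⟩ := hA _ (u + v).2
  rw [Submodule.coe_add] at hc
  exact ⟨a + b - c, by omega⟩

theorem FF_add (i : ι) (e f : A) : FF B i (e + f) = FF B i e + FF B i f +
    ∑ j, (B i : α → ZMod 2) j * (e : α → ZMod 2) j * (f : α → ZMod 2) j := by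
  unfold FF
  rw [Submodule.coe_add, mul_add, hh_add (even_mul hA (B i) e) (even_mul hA (B i) f)]
  have e1 : ∑ j, cc B i j * B.repr (e + f) j =
      ∑ j, cc B i j * B.repr e j + ∑ j, cc B i j * B.repr f j := by
    rw [← Finset.sum_add_distrib]
    apply Finset.sum_congr rfl
    intro j _
    rw [map_add, Finsupp.add_apply, mul_add]
  have e2 : ∑ j, ((B i : α → ZMod 2) * (e : α → ZMod 2)) j * ((B i : α → ZMod 2) * (f : α → ZMod 2)) j =
      ∑ j, (B i : α → ZMod 2) j * (e : α → ZMod 2) j * (f : α → ZMod 2) j := by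
    apply Finset.sum_congr rfl
    intro j _
    simp only [Pi.mul_apply]
    generalize (B i : α → ZMod 2) j = a
    generalize (e : α → ZMod 2) j = b
    generalize (f : α → ZMod 2) j = c
    revert a b c
    decide
  rw [e1, e2]
  ring

theorem ph_add_right (x e f : A) : ph B x (e + f) = ph B x e + ph B x f +
    ∑ j, (x : α → ZMod 2) j * (e : α → ZMod 2) j * (f : α → ZMod 2) j := by
  unfold ph
  have e1 : ∑ j, (x : α → ZMod 2) j * (e : α → ZMod 2) j * (f : α → ZMod 2) j =
      ∑ i, B.repr x i * ∑ j, (B i : α → ZMod 2) j * (e : α → ZMod 2) j * (f : α → ZMod 2) j := by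
    simp only [Finset.mul_sum]
    rw [Finset.sum_comm]
    apply Finset.sum_congr rfl
    intro j _
    rw [coe_eq_sum B x j, Finset.sum_mul, Finset.sum_mul]
    apply Finset.sum_congr rfl
    intro i _
    ring
  rw [e1, ← Finset.sum_add_distrib, ← Finset.sum_add_distrib]
  apply Finset.sum_congr rfl
  intro i _
  rw [FF_add B hA]
  ring

theorem sum_mul_eq_zero (u v : A) : ∑ j, (u : α → ZMod 2) j * (v : α → ZMod 2) j = 0 := by
  have h : ∑ j, (u : α → ZMod 2) j * (v : α → ZMod 2) j =
      ((wt ((u : α → ZMod 2) * (v : α → ZMod 2)) : ℕ) : ZMod 2) := by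
    rw [wt_cast]; rfl
  rw [h]
  obtain ⟨a, ha⟩ := even_mul hA u v
  rw [ha]
  push_cast
  exact add_self2 _

/-- the commutator rule -/
theorem ph_comm (d e : A) :
    ph B d e + ph B e d = hh ((d : α → ZMod 2) * (e : α → ZMod 2)) := by
  have key : ∀ d e : A, ph B d e + ph B e d + hh ((d : α → ZMod 2) * (e : α → ZMod 2)) = 0 := by
    have h1 : ∀ d d' e : A, ph B (d + d') e + ph B e (d + d') +
        hh (((d + d' : A) : α → ZMod 2) * (e : α → ZMod 2)) =
        (ph B d e + ph B e d + hh ((d : α → ZMod 2) * (e : α → ZMod 2))) +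
        (ph B d' e + ph B e d' + hh ((d' : α → ZMod 2) * (e : α → ZMod 2))) := by
      intro d d' e
      rw [ph_add_left, ph_add_right B hA, Submodule.coe_add, add_mul,
        hh_add (even_mul hA d e) (even_mul hA d' e)]
      have e2 : ∑ j, ((d : α → ZMod 2) * (e : α → ZMod 2)) j * ((d' : α → ZMod 2) * (e : α → ZMod 2)) j =
          ∑ j, (e : α → ZMod 2) j * (d : α → ZMod 2) j * (d' : α → ZMod 2) j := by
        apply Finset.sum_congr rfl
        intro j _
        simp only [Pi.mul_apply]
        generalize (d : α → ZMod 2) j = a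
        generalize (e : α → ZMod 2) j = b
        generalize (d' : α → ZMod 2) j = c
        revert a b c
        decide
      rw [e2]
      generalize ∑ j, (e : α → ZMod 2) j * (d : α → ZMod 2) j * (d' : α → ZMod 2) j = T
      have := add_self2 T
      linear_combination this
    have hs : ∀ d e : A, ph B d e + ph B e d + hh ((d : α → ZMod 2) * (e : α → ZMod 2)) =
        ph B e d + ph B d e + hh ((e : α → ZMod 2) * (d : α → ZMod 2)) := by
      intro d e
      rw [mul_comm (d : α → ZMod 2), add_comm (ph B d e)]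
    refine biadd_zero B (fun d e => ph B d e + ph B e d + hh ((d : α → ZMod 2) * (e : α → ZMod 2)))
      h1 ?_ ?_
    · intro d e e'
      show ph B d (e + e') + ph B (e + e') d + hh ((d : α → ZMod 2) * ((e + e' : A) : α → ZMod 2)) = _
      rw [hs, h1, hs e d, hs e' d]
    · intro i j
      show ph B (B i) (B j) + ph B (B j) (B i) + hh ((B i : α → ZMod 2) * (B j : α → ZMod 2)) = 0
      rw [ph_basis, ph_basis, FF_basis, FF_basis, mul_comm (B j : α → ZMod 2)]
      generalize hX : hh ((B i : α → ZMod 2) * (B j : α → ZMod 2)) = X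
      have hXX := add_self2 X
      rcases lt_trichotomy i j with h | h | h
      · rw [cc, if_neg h.ne, if_pos h, cc, if_neg h.ne', if_neg h.not_gt, hX]
        linear_combination 2 * hXX
      · subst h
        rw [mul_self2, hh_eq_zero (hA _ (B i).2)] at hX
        rw [← hX]
        have := add_self2 (cc B i i)
        linear_combination this
      · rw [cc, if_neg h.ne', if_neg h.not_gt, cc, if_neg h.ne, if_pos h,
          mul_comm (B j : α → ZMod 2), hX]
        linear_combination 2 * hXX
  have h := key d e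
  have h2 := add_self2 (hh ((d : α → ZMod 2) * (e : α → ZMod 2)))
  linear_combination h - h2

/-- the squaring rule -/
theorem ph_self (d : A) : ph B d d = kk (d : α → ZMod 2) := by
  have key : ∀ d : A, ph B d d + kk (d : α → ZMod 2) = 0 := by
    refine add_zero_of_basis B (fun d => ph B d d + kk (d : α → ZMod 2)) ?_ ?_
    · intro d e
      show ph B (d + e) (d + e) + kk ((d + e : A) : α → ZMod 2) = _
      rw [ph_add_left, ph_add_right B hA, ph_add_right B hA, Submodule.coe_add,
        kk_add (hA _ d.2) (hA _ e.2) (by rw [← Submodule.coe_add]; exact hA _ (d + e).2),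
        ← ph_comm B hA d e]
      have e1 : ∑ j, (d : α → ZMod 2) j * (d : α → ZMod 2) j * (e : α → ZMod 2) j = 0 := by
        rw [← sum_mul_eq_zero hA d e]
        apply Finset.sum_congr rfl
        intro j _
        generalize (d : α → ZMod 2) j = a
        generalize (e : α → ZMod 2) j = b
        revert a b
        decide
      have e2 : ∑ j, (e : α → ZMod 2) j * (d : α → ZMod 2) j * (e : α → ZMod 2) j = 0 := by
        rw [← sum_mul_eq_zero hA d e]
        apply Finset.sum_congr rfl
        intro j _
        generalize (d : α → ZMod 2) j = a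
        generalize (e : α → ZMod 2) j = b
        revert a b
        decide
      rw [e1, e2]
      have h1 := add_self2 (ph B d e)
      have h2 := add_self2 (ph B e d)
      linear_combination h1 + h2
    · intro i
      show ph B (B i) (B i) + kk (B i : α → ZMod 2) = 0
      rw [ph_basis, FF_basis, mul_self2, hh_eq_zero (hA _ (B i).2), cc, if_pos rfl, zero_add]
      exact add_self2 _
  have h := key d
  have h2 := add_self2 (kk (d : α → ZMod 2))
  linear_combination h - h2

/-- weight preserving automorphisms of the code lift to the loop -/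
theorem exists_lift (g : A → A) (g1 : ∀ d e, g (d + e) = g d + g e)
    (gw : ∀ d, wt (g d : α → ZMod 2) = wt (d : α → ZMod 2))
    (gw2 : ∀ d e, wt ((g d : α → ZMod 2) * (g e : α → ZMod 2)) =
      wt ((d : α → ZMod 2) * (e : α → ZMod 2))) :
    ∃ q : A → ZMod 2, ∀ d e, q (d + e) + q d + q e = ph B (g d) (g e) + ph B d e := by
  apply exists_quad B (fun d e => ph B (g d) (g e) + ph B d e)
  · intro d d' e
    show ph B (g (d + d')) (g e) + ph B (d + d') e = _
    rw [g1, ph_add_left, ph_add_left]; ring
  · intro d e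
    show ph B (g d) (g e) + ph B d e = ph B (g e) (g d) + ph B e d
    have h1 := ph_comm B hA (g d) (g e)
    have h2 := ph_comm B hA d e
    have h3 : hh ((g d : α → ZMod 2) * (g e : α → ZMod 2)) =
        hh ((d : α → ZMod 2) * (e : α → ZMod 2)) := by unfold hh; rw [gw2]
    rw [h3] at h1
    have a1 := add_self2 (ph B (g e) (g d))
    have a2 := add_self2 (ph B e d)
    have a3 := add_self2 (hh ((d : α → ZMod 2) * (e : α → ZMod 2)))
    linear_combination h1 + h2 - a1 - a2 + a3
  · intro d
    show ph B (g d) (g d) + ph B d d = 0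
    rw [ph_self B hA, ph_self B hA]
    have : kk (g d : α → ZMod 2) = kk (d : α → ZMod 2) := by unfold kk; rw [gw]
    rw [this]
    exact add_self2 _

end code

end Cfsg.Agent.Lib.Helper9.Parker
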