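import Mathlib

set_option autoImplicit false
set_option linter.unusedSectionVars false

/-!
The group of pairs `(g, q)` with `q (d + e) + q d + q e = φ (g d) (g e) + φ d e`, an extension of
(a subgroup of) `G` by the dual of `A`, and a criterion for it to be non split.
-/

namespace Cfsg.Agent.Lib.Helper9.Parker

variable (G : Type*) {A : Type*} [Group G] [AddCommGroup A] [DistribMulAction G A] (φ : A → A → ZMod 2)

theorem add_self2' (a : ZMod 2) : a + a = 0 := CharTwo.add_self_eq_zero a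

@[ext] structure PE where
  g : G
  q : A → ZMod 2
  h : ∀ d e, q (d + e) + q d + q e = φ (g • d) (g • e) + φ d e

namespace PE

variable {G φ}

theorem act_mul (x y : G) (d : A) : (x * y) • d = x • (y • d) := mul_smul x y d

theorem act_one (d : A) : (1 : G) • d = d := one_smul G d

theorem act_inv_act (x : G) (d : A) : x⁻¹ • (x • d) = d := inv_smul_smul x d

theorem act_act_inv (x : G) (d : A) : x • (x⁻¹ • d) = d := smul_inv_smul x d

instance : Mul (PE G φ) where
  mul x y := ⟨x.g * y.g, fun d => y.q d + x.q (y.g • d), by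
    intro d e
    have h1 := y.h d e
    have h2 := x.h (y.g • d) (y.g • e)
    rw [← smul_add] at h2
    rw [act_mul, act_mul]
    have h3 := add_self2' (φ (y.g • d) (y.g • e))
    linear_combination h1 + h2 + h3⟩

instance : One (PE G φ) where
  one := ⟨1, fun _ => 0, by
    intro d e
    rw [act_one, act_one, add_self2' (φ d e)]
    simp⟩

instance : Inv (PE G φ) where
  inv x := ⟨x.g⁻¹, fun d => x.q (x.g⁻¹ • d), by
    intro d e
    have h2 := x.h (x.g⁻¹ • d) (x.g⁻¹ • e)
    rw [← smul_add, act_act_inv, act_act_inv] at h2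
    rw [h2, add_comm]⟩

@[simp] theorem mul_g (x y : PE G φ) : (x * y).g = x.g * y.g := rfl
@[simp] theorem mul_q (x y : PE G φ) (d : A) : (x * y).q d = y.q d + x.q (y.g • d) := rfl
@[simp] theorem one_g : (1 : PE G φ).g = 1 := rfl
@[simp] theorem one_q (d : A) : (1 : PE G φ).q d = 0 := rfl
@[simp] theorem inv_g (x : PE G φ) : (x⁻¹).g = x.g⁻¹ := rfl
@[simp] theorem inv_q (x : PE G φ) (d : A) : (x⁻¹).q d = x.q (x.g⁻¹ • d) := rfl

instance : Group (PE G φ) where
  mul_assoc x y z := by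
    ext d
    · simp [mul_assoc]
    · simp [act_mul, add_assoc]
  one_mul x := by
    ext d
    · simp
    · simp
  mul_one x := by
    ext d
    · simp
    · simp [act_one]
  inv_mul_cancel x := by
    ext d
    · simp
    · simp [act_inv_act, add_self2']

/-- the projection -/
def proj : PE G φ →* G where
  toFun := PE.g
  map_one' := rfl
  map_mul' _ _ := rfl

@[simp] theorem proj_apply (x : PE G φ) : proj x = x.g := rfl

instance [Finite G] [Finite A] : Finite (PE G φ) := by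
  apply Finite.of_injective (fun x : PE G φ => (x.g, x.q))
  intro x y h
  have h1 := congrArg Prod.fst h
  have h2 := congrArg Prod.snd h
  exact PE.ext h1 h2

theorem pow_q (x : PE G φ) (d : A) (hd : x.g • d = d) (k : ℕ) :
    (x ^ k).q d = k * x.q d := by
  induction k with
  | zero => simp
  | succ k ih =>
    rw [pow_succ, mul_q, hd, ih]
    push_cast
    ring

theorem pow_g (x : PE G φ) (k : ℕ) : (x ^ k).g = x.g ^ k := map_pow proj x k

/-- the criterion for non splitting -/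
theorem not_split (hsurj : Function.Surjective (proj : PE G φ →* G))
    (h x1 x2 x3 x4 : G) (d1 d2 : A) (m1 m2 m3 m4 : ℕ)
    (o1 : Odd m1) (o2 : Odd m2) (o3 : Odd m3) (o4 : Odd m4)
    (p1 : x1 ^ m1 = 1) (p2 : x2 ^ m2 = 1) (p3 : x3 ^ m3 = 1) (p4 : x4 ^ m4 = 1)
    (e1 : h = x1 * x2) (e2 : h * h = x3 * x4)
    (a1 : h • d1 = d2) (a2 : h • d2 = d1)
    (f1 : x1 • (d1 + d2) = d1 + d2) (f2 : x2 • (d1 + d2) = d1 + d2)
    (f3 : x3 • d1 = d1) (f4 : x4 • d1 = d1)
    (hφ : φ d2 d1 + φ d1 d2 = 1) (H : Subgroup (PE G φ))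
    (h1 : H ⊓ (proj : PE G φ →* G).ker = ⊥) : H ⊔ (proj : PE G φ →* G).ker ≠ ⊤ := by
  intro h2
  have lift : ∀ x : G, ∃ a ∈ H, a.g = x := by
    intro x
    obtain ⟨e, he⟩ := hsurj x
    have : e ∈ ((H ⊔ (proj : PE G φ →* G).ker : Subgroup _) : Set (PE G φ)) := by
      rw [h2]; trivial
    rw [Subgroup.mul_normal] at this
    obtain ⟨a, ha, n, hn, rfl⟩ := this
    refine ⟨a, ha, ?_⟩
    have hn' : n.g = 1 := hn
    rw [← he, proj_apply, mul_g, hn', mul_one]
  have triv : ∀ a ∈ H, a.g = 1 → a = 1 := by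
    intro a ha h
    have : a ∈ H ⊓ (proj : PE G φ →* G).ker := ⟨ha, h⟩
    rw [h1] at this
    exact this
  have odd : ∀ a ∈ H, ∀ m : ℕ, Odd m → a.g ^ m = 1 → ∀ d, a.g • d = d → a.q d = 0 := by
    intro a ha m hm hp d hd
    have h3 := triv (a ^ m) (H.pow_mem ha m) (by rw [pow_g, hp])
    have h4 := pow_q a d hd m
    rw [h3, one_q] at h4
    obtain ⟨k, rfl⟩ := hm
    push_cast at h4
    have two : (2 : ZMod 2) = 0 := by decide
    rw [two] at h4
    simpa using h4.symm
  obtain ⟨b1, hb1, g1⟩ := lift x1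
  obtain ⟨b2, hb2, g2⟩ := lift x2
  obtain ⟨b3, hb3, g3⟩ := lift x3
  obtain ⟨b4, hb4, g4⟩ := lift x4
  obtain ⟨c, hc⟩ : ∃ c, c = b1 * b2 := ⟨_, rfl⟩
  have cg : c.g = h := by rw [hc, mul_g, g1, g2, e1]
  have cH : c ∈ H := by rw [hc]; exact H.mul_mem hb1 hb2
  have q1 : c.q (d1 + d2) = 0 := by
    rw [hc, mul_q, g2, f2, odd b2 hb2 m2 o2 (by rw [g2, p2]) _ (by rw [g2, f2]),
      odd b1 hb1 m1 o1 (by rw [g1, p1]) _ (by rw [g1, f1]), add_zero]
  have cc : c * c = b3 * b4 := by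
    have h5 := triv ((c * c)⁻¹ * (b3 * b4))
      (H.mul_mem (H.inv_mem (H.mul_mem cH cH)) (H.mul_mem hb3 hb4))
      (by rw [mul_g, inv_g, mul_g, mul_g, cg, g3, g4, e2, inv_mul_cancel])
    exact (inv_mul_eq_one.1 h5)
  have q2 : c.q d1 + c.q d2 = 0 := by
    have h6 : (c * c).q d1 = c.q d1 + c.q d2 := by rw [mul_q, cg, a1]
    rw [← h6, cc, mul_q, g4, f4, odd b4 hb4 m4 o4 (by rw [g4, p4]) _ (by rw [g4, f4]),
      odd b3 hb3 m3 o3 (by rw [g3, p3]) _ (by rw [g3, f3]), add_zero]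
  have h7 := c.h d1 d2
  rw [cg, a1, a2, hφ, q1, zero_add, q2] at h7
  exact zero_ne_one h7

end PE

end Cfsg.Agent.Lib.Helper9.Parker
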