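import Cfsg.Agent.Lib.Helper9.ParkerCocycle
import Cfsg.Agent.Lib.Helper9.ParkerGroup
import Cfsg.Agent.Lib.Helper9.SchurGroups
import Cfsg.Agent.Lib.Helper9.GolayFacts
import Cfsg.Agent.Lib.Helper10.Golay

set_option autoImplicit false

/-!
A non split extension of `M23` by the eleven dimensional cocode module.
-/

namespace Cfsg.Agent.Lib.Helper9.Parker

open Cfsg
open scoped Pointwise

/-! ### linear algebra -/

theorem exists_dot {α : Type*} [Fintype α] [DecidableEq α] (A : Submodule (ZMod 2) (α → ZMod 2))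
    (f : A →ₗ[ZMod 2] ZMod 2) :
    ∃ w : α → ZMod 2, ∀ d : A, f d = ∑ j, w j * (d : α → ZMod 2) j := by
  obtain ⟨F, hF⟩ := LinearMap.exists_extend f
  refine ⟨fun j => F (fun k => if j = k then 1 else 0), fun d => ?_⟩
  have h1 : f d = F d := by rw [← hF]; rfl
  rw [h1, LinearMap.pi_apply_eq_sum_univ F (d : α → ZMod 2)]
  apply Finset.sum_congr rfl
  intro j _
  rw [smul_eq_mul, mul_comm]

/-- the pairing with the code -/
def dotMap (A : Submodule (ZMod 2) (GolayPt → ZMod 2)) :
    (GolayPt → ZMod 2) →ₗ[ZMod 2] (A →ₗ[ZMod 2] ZMod 2) :=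
  LinearMap.mk₂ (ZMod 2) (fun w (c : A) => ∑ j, w j * (c : GolayPt → ZMod 2) j)
    (by intro w w' c; simp only [Pi.add_apply, add_mul, Finset.sum_add_distrib])
    (by intro a w c; simp only [Pi.smul_apply, smul_eq_mul, Finset.mul_sum, mul_assoc])
    (by intro w c c'; simp only [Submodule.coe_add, Pi.add_apply, mul_add, Finset.sum_add_distrib])
    (by
      intro a w c
      simp only [Submodule.coe_smul, Pi.smul_apply, smul_eq_mul, Finset.mul_sum]
      apply Finset.sum_congr rfl
      intro j _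
      ring)

theorem dotMap_apply (A : Submodule (ZMod 2) (GolayPt → ZMod 2)) (w : GolayPt → ZMod 2) (c : A) :
    dotMap A w c = ∑ j, w j * (c : GolayPt → ZMod 2) j := rfl

theorem golay_dual {w : GolayPt → ZMod 2} (h : ∀ c ∈ golayCode, ∑ j, w j * c j = 0) :
    w ∈ golayCode := by
  have hsurj : Function.Surjective (dotMap golayCode) := by
    intro f
    obtain ⟨w, hw⟩ := exists_dot golayCode f
    exact ⟨w, LinearMap.ext fun d => (hw d).symm⟩
  have h1 := LinearMap.finrank_range_add_finrank_ker (dotMap golayCode)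
  rw [LinearMap.range_eq_top.2 hsurj, finrank_top] at h1
  have h2 : Module.finrank (ZMod 2) (golayCode →ₗ[ZMod 2] ZMod 2) = 12 := by
    rw [← finrank_golayCode]
    exact Subspace.dual_finrank_eq
  have h3 : Module.finrank (ZMod 2) (GolayPt → ZMod 2) = 24 := by
    rw [Module.finrank_fintype_fun_eq_card]
    rfl
  have h4 : golayCode ≤ LinearMap.ker (dotMap golayCode) := by
    intro u hu
    rw [LinearMap.mem_ker]
    exact LinearMap.ext fun c => Cfsg.Agent.Lib.Helper10.golay_orth u hu c c.2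
  have h5 : golayCode = LinearMap.ker (dotMap golayCode) := by
    apply Submodule.eq_of_le_of_finrank_eq h4
    rw [finrank_golayCode]
    omega
  rw [h5, LinearMap.mem_ker]
  exact LinearMap.ext fun c => h c c.2


/-! ### the code `C11` and the action of `M23` -/

/-- the code words vanishing at the extra point -/
def C11 : Submodule (ZMod 2) (GolayPt → ZMod 2) :=
  golayCode ⊓ LinearMap.ker (LinearMap.proj (none : GolayPt))

theorem mem_C11 (d : GolayPt → ZMod 2) : d ∈ C11 ↔ d ∈ golayCode ∧ d none = 0 := by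
  rw [C11, Submodule.mem_inf, LinearMap.mem_ker]
  rfl

theorem wt_eq_card (u : GolayPt → ZMod 2) : wt u = (support₂ u).card := by
  unfold wt support₂
  rw [Finset.card_filter]
  apply Finset.sum_congr rfl
  intro j _
  generalize u j = a
  revert a
  decide

theorem C11_de : ∀ u ∈ C11, 4 ∣ wt u := by
  intro u hu
  rw [wt_eq_card]
  exact Cfsg.Agent.Lib.Helper10.golay_doubly_even_word u ((mem_C11 u).1 hu).1

theorem wt_comp (u : GolayPt → ZMod 2) (σ : Equiv.Perm GolayPt) : wt (u ∘ ⇑σ) = wt u :=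
  Equiv.sum_comp σ (fun j => (u j).val)

theorem ind_smul (σ : Equiv.Perm GolayPt) (s : Finset GolayPt) :
    Cfsg.Agent.Lib.Helper10.ind (σ • s) = Cfsg.Agent.Lib.Helper10.ind s ∘ ⇑σ⁻¹ := by
  funext p
  simp only [Cfsg.Agent.Lib.Helper10.ind, Function.comp_apply]
  have : p ∈ σ • s ↔ σ⁻¹ p ∈ s := by
    rw [← Finset.inv_smul_mem_iff]
    rfl
  simp only [this]

theorem comp_mem_golay {σ : Equiv.Perm GolayPt} (hσ : σ ∈ M24) {w : GolayPt → ZMod 2}
    (hw : w ∈ golayCode) : w ∘ ⇑σ⁻¹ ∈ golayCode := by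
  have h1 : support₂ w ∈ supports (golayCode : Set (GolayPt → ZMod 2)) := ⟨w, hw, rfl⟩
  have h2 := Cfsg.Agent.Lib.Helper10.mem_supports_iff.1 (Cfsg.Agent.Lib.Helper33.smul_mem_supports hσ h1)
  rw [ind_smul, Cfsg.Agent.Lib.Helper10.ind_support₂] at h2
  exact h2

theorem comp_mem_C11 (g : ↥Spor.M23) {d : GolayPt → ZMod 2} (hd : d ∈ C11) :
    d ∘ ⇑((g : Equiv.Perm GolayPt)⁻¹) ∈ C11 := by
  rw [mem_C11] at hd ⊢
  refine ⟨comp_mem_golay g.2.1 hd.1, ?_⟩
  have h1 : (g : Equiv.Perm GolayPt) none = none := g.2.2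
  have h2 : (g : Equiv.Perm GolayPt)⁻¹ none = none := by
    rw [Equiv.Perm.inv_eq_iff_eq, h1]
  rw [Function.comp_apply, h2, hd.2]

instance : DistribMulAction ↥Spor.M23 ↥C11 where
  smul g d := ⟨(d : GolayPt → ZMod 2) ∘ ⇑((g : Equiv.Perm GolayPt)⁻¹), comp_mem_C11 g d.2⟩
  one_smul d := by
    apply Subtype.ext
    rfl
  mul_smul g g' d := by
    apply Subtype.ext
    funext p
    show (d : GolayPt → ZMod 2) (((g * g' : ↥Spor.M23) : Equiv.Perm GolayPt)⁻¹ p) =
      (d : GolayPt → ZMod 2) ((g' : Equiv.Perm GolayPt)⁻¹ ((g : Equiv.Perm GolayPt)⁻¹ p))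
    rw [Subgroup.coe_mul, mul_inv_rev]
    rfl
  smul_zero g := by
    apply Subtype.ext
    rfl
  smul_add g d e := by
    apply Subtype.ext
    rfl

theorem coe_smul (g : ↥Spor.M23) (d : ↥C11) :
    ((g • d : ↥C11) : GolayPt → ZMod 2) = (d : GolayPt → ZMod 2) ∘ ⇑((g : Equiv.Perm GolayPt)⁻¹) :=
  rfl

/-- a basis of the code -/
noncomputable def BB : Module.Basis (Fin (Module.finrank (ZMod 2) ↥C11)) (ZMod 2) ↥C11 :=
  Module.finBasis (ZMod 2) ↥C11

/-- the extension -/
abbrev EE : Type := PE ↥Spor.M23 (ph BB)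

theorem proj_surj : Function.Surjective (PE.proj : EE →* ↥Spor.M23) := by
  intro g
  obtain ⟨q, hq⟩ := exists_lift BB C11_de (fun d => g • d) (fun d e => smul_add g d e)
    (fun d => by rw [coe_smul, wt_comp])
    (fun d e => by
      rw [coe_smul, coe_smul]
      exact wt_comp ((d : GolayPt → ZMod 2) * (e : GolayPt → ZMod 2)) _)
  exact ⟨⟨g, q, hq⟩, rfl⟩

/-- the elements of the kernel -/
noncomputable def dotq (w : GolayPt → ZMod 2) : EE :=
  ⟨1, fun d => ∑ j, w j * (d : GolayPt → ZMod 2) j, by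
    intro d e
    rw [one_smul, one_smul, add_self2]
    simp only [Submodule.coe_add, Pi.add_apply, mul_add, Finset.sum_add_distrib]
    have h1 := add_self2 (∑ j, w j * (d : GolayPt → ZMod 2) j)
    have h2 := add_self2 (∑ j, w j * (e : GolayPt → ZMod 2) j)
    linear_combination h1 + h2⟩

theorem dotq_g (w : GolayPt → ZMod 2) : (dotq w).g = 1 := rfl
theorem dotq_q (w : GolayPt → ZMod 2) (d : ↥C11) :
    (dotq w).q d = ∑ j, w j * (d : GolayPt → ZMod 2) j := rfl

theorem dotq_add (w w' : GolayPt → ZMod 2) : dotq (w + w') = dotq w * dotq w' := by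
  ext d
  · simp [dotq_g]
  · rw [PE.mul_q, dotq_g, one_smul, dotq_q, dotq_q, dotq_q, add_comm, ← Finset.sum_add_distrib]
    apply Finset.sum_congr rfl
    intro j _
    rw [Pi.add_apply, add_mul]

theorem dotq_zero : dotq 0 = 1 := by
  ext d
  · rfl
  · rw [dotq_q]; simp

/-- the map from the binary words onto the kernel -/
noncomputable def theta : (GolayPt → ZMod 2) →+ Additive ↥(PE.proj : EE →* ↥Spor.M23).ker where
  toFun w := Additive.ofMul ⟨dotq w, rfl⟩
  map_zero' := by
    apply Additive.toMul.injective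
    apply Subtype.ext
    exact dotq_zero
  map_add' w w' := by
    apply Additive.toMul.injective
    apply Subtype.ext
    exact dotq_add w w'

theorem theta_coe (w : GolayPt → ZMod 2) : (((theta w).toMul : ↥(PE.proj : EE →* ↥Spor.M23).ker) : EE) = dotq w := rfl

theorem theta_surj : Function.Surjective theta := by
  intro n
  obtain ⟨⟨x, hx⟩, rfl⟩ := Additive.ofMul.surjective n
  have hg : x.g = 1 := hx
  have hadd : ∀ d e, x.q (d + e) = x.q d + x.q e := by
    intro d e
    have h := x.h d e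
    rw [hg, one_smul, one_smul, add_self2] at h
    have h1 := add_self2 (x.q d)
    have h2 := add_self2 (x.q e)
    linear_combination h - h1 - h2
  obtain ⟨w, hw⟩ := exists_dot C11 ((AddMonoidHom.mk' x.q hadd).toZModLinearMap 2)
  refine ⟨w, ?_⟩
  apply Additive.toMul.injective
  apply Subtype.ext
  show dotq w = x
  ext d
  · rw [dotq_g, hg]
  · rw [dotq_q]; exact (hw d).symm

theorem theta_eq_zero (w : GolayPt → ZMod 2) :
    theta w = 0 ↔ (w ∈ golayCode ∨ w + Pi.single none 1 ∈ golayCode) := by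
  have e1 : theta w = 0 ↔ ∀ d : ↥C11, ∑ j, w j * (d : GolayPt → ZMod 2) j = 0 := by
    constructor
    · intro h d
      have h1 : dotq w = 1 := by
        rw [← theta_coe, h]; rfl
      rw [← dotq_q, h1, PE.one_q]
    · intro h
      apply Additive.toMul.injective
      apply Subtype.ext
      show dotq w = 1
      ext d
      · rfl
      · rw [dotq_q, h, PE.one_q]
  have hsingle : ∀ d : GolayPt → ZMod 2, ∑ j, (Pi.single none 1 : GolayPt → ZMod 2) j * d j = d none := by
    intro d
    rw [Finset.sum_eq_single none]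
    · rw [Pi.single_eq_same, one_mul]
    · intro j _ hj
      rw [Pi.single_eq_of_ne hj, zero_mul]
    · intro h; exact absurd (Finset.mem_univ _) h
  have hone : (1 : GolayPt → ZMod 2) ∈ golayCode := Submodule.subset_span (Or.inr rfl)
  -- orthogonal to `C11` and to the all ones word implies in the code
  have key : ∀ v : GolayPt → ZMod 2, (∀ d : ↥C11, ∑ j, v j * (d : GolayPt → ZMod 2) j = 0) →
      ∑ j, v j = 0 → v ∈ golayCode := by
    intro v h1 h2
    apply golay_dual
    intro c hc
    by_cases h0 : c none = 0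
    · exact h1 ⟨c, (mem_C11 c).2 ⟨hc, h0⟩⟩
    · have h0' : c none = 1 := (Cfsg.Agent.Lib.Helper10.zmod2_ne_zero_iff _).1 h0
      have h3 := h1 ⟨c + 1, (mem_C11 _).2 ⟨golayCode.add_mem hc hone, by
        rw [Pi.add_apply, h0']; decide⟩⟩
      simp only [Pi.add_apply, Pi.one_apply, mul_add, mul_one, Finset.sum_add_distrib, h2,
        add_zero] at h3
      exact h3
  rw [e1]
  constructor
  · intro h
    by_cases hs : ∑ j, w j = 0
    · exact Or.inl (key w h hs)
    · right
      have hs' : ∑ j, w j = 1 := (Cfsg.Agent.Lib.Helper10.zmod2_ne_zero_iff _).1 hs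
      apply key
      · intro d
        simp only [Pi.add_apply, add_mul, Finset.sum_add_distrib]
        rw [h d, hsingle, ((mem_C11 _).1 d.2).2, add_zero]
      · simp only [Pi.add_apply, Finset.sum_add_distrib]
        rw [hs']
        have := hsingle 1
        simp only [Pi.one_apply, mul_one] at this
        rw [this]
        decide
  · rintro (h | h) d
    · exact Cfsg.Agent.Lib.Helper10.golay_orth w h d ((mem_C11 _).1 d.2).1
    · have h1 := Cfsg.Agent.Lib.Helper10.golay_orth _ h d ((mem_C11 _).1 d.2).1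
      simp only [Pi.add_apply, add_mul, Finset.sum_add_distrib] at h1
      rw [hsingle, ((mem_C11 _).1 d.2).2, add_zero] at h1
      exact h1

theorem theta_conj (x : EE) (w : GolayPt → ZMod 2) :
    dotq (w ∘ ⇑((x.g : Equiv.Perm GolayPt)⁻¹)) = x * dotq w * x⁻¹ := by
  ext d
  · simp [dotq_g]
  · rw [PE.mul_q, PE.mul_q, PE.inv_q, PE.inv_g, dotq_g, one_smul, dotq_q, dotq_q]
    have h1 := add_self2 (x.q (x.g⁻¹ • d))
    have h2 : ∑ j, (w ∘ ⇑((x.g : Equiv.Perm GolayPt)⁻¹)) j * (d : GolayPt → ZMod 2) j =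
        ∑ j, w j * ((x.g⁻¹ • d : ↥C11) : GolayPt → ZMod 2) j := by
      rw [coe_smul, ← Equiv.sum_comp (x.g : Equiv.Perm GolayPt)]
      apply Finset.sum_congr rfl
      intro j _
      simp
    rw [h2]
    linear_combination -h1

end Cfsg.Agent.Lib.Helper9.Parker
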