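import Cfsg.Agent.Lib.Helper9.ParkerM23

set_option autoImplicit false

/-!
The extension `EE` of `M23` by the cocode module does not split.
-/

namespace Cfsg.Agent.Lib.Helper9.Parker

open Cfsg Cfsg.Agent.Lib.Helper33
open scoped Pointwise

theorem wordOf_eq_ind (m : ℕ) : Helper33.wordOf m = Cfsg.Agent.Lib.Helper10.ind (unmask m) := by
  rw [← support_wordOf, Cfsg.Agent.Lib.Helper10.ind_support₂]

theorem wordOf_comp {A : ℕ} (hA : isPerm A = true) (m : ℕ) :
    Helper33.wordOf m ∘ ⇑(permOf A)⁻¹ = Helper33.wordOf (permMask A m) := by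
  rw [wordOf_eq_ind, ← ind_smul, smul_unmask hA, wordOf_eq_ind]

theorem wordOf_mem_C11 {m : ℕ} (h1 : isCode m = true) (h2 : m.testBit 23 = false) :
    Helper33.wordOf m ∈ C11 := by
  rw [mem_C11]
  constructor
  · have e : Helper33.enc (Nat.land m 0xFFF) = m := Nat.eq_of_beq_eq_true h1
    rw [← e]
    apply enc_mem
    exact Nat.lt_of_le_of_lt Nat.and_le_right (by norm_num)
  · show (if m.testBit (idx none) = true then (1 : ZMod 2) else 0) = 0
    rw [show idx none = 23 from rfl, h2]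
    rfl

def cH : ℕ := 0xbb4b4808f3639f6a8d4922cc044831
def c1 : ℕ := 0xb8cc9acd656282d3d11681240789d1
def c2 : ℕ := 0xbb20a38972784689d9d4346a4495a0
def c3 : ℕ := 0xbbe6b40d3025aae0a8d1a34f261402
def c4 : ℕ := 0xbd927a91f07306614e4a0b68888165

theorem cs_ok : ∀ A ∈ [cH, c1, c2, c3, c4], OKc Spor.M23 A := okc_of_all okc_M23 (by decide +kernel)

noncomputable def w1 : ↥C11 := ⟨Helper33.wordOf 0x1108a7, wordOf_mem_C11 (by decide +kernel) (by decide +kernel)⟩
noncomputable def w2 : ↥C11 := ⟨Helper33.wordOf 0x3e0052, wordOf_mem_C11 (by decide +kernel) (by decide +kernel)⟩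

theorem smul_word {A : ℕ} (hA : OKc Spor.M23 A) (d : ↥C11) (m : ℕ)
    (hd : (d : GolayPt → ZMod 2) = Helper33.wordOf m) :
    ((el Spor.M23 A • d : ↥C11) : GolayPt → ZMod 2) = Helper33.wordOf (permMask A m) := by
  rw [coe_smul, el_val hA, hd, wordOf_comp hA.1]

theorem w12 : ((w1 + w2 : ↥C11) : GolayPt → ZMod 2) = Helper33.wordOf 0x2f08f5 := by
  rw [Submodule.coe_add]
  show Helper33.wordOf 0x1108a7 + Helper33.wordOf 0x3e0052 = _
  rw [← Helper33.wordOf_xor]
  rfl

theorem pow_el {A : ℕ} (m : ℕ) (h : weqC [cH, c1, c2, c3, c4] (List.replicate m A) [] = true) :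
    (el Spor.M23 A) ^ m = 1 := by
  have := word_eqC cs_ok h
  rwa [List.map_replicate, List.prod_replicate, List.map_nil, List.prod_nil] at this

theorem EE_not_split (H : Subgroup EE) (h1 : H ⊓ (PE.proj : EE →* ↥Spor.M23).ker = ⊥) :
    H ⊔ (PE.proj : EE →* ↥Spor.M23).ker ≠ ⊤ := by
  refine PE.not_split proj_surj (el Spor.M23 cH) (el Spor.M23 c1) (el Spor.M23 c2)
    (el Spor.M23 c3) (el Spor.M23 c4) w1 w2 11 5 7 7 (by decide) (by decide) (by decide)
    (by decide) (pow_el 11 (by decide +kernel)) (pow_el 5 (by decide +kernel))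
    (pow_el 7 (by decide +kernel)) (pow_el 7 (by decide +kernel)) ?_ ?_ ?_ ?_ ?_ ?_ ?_ ?_ ?_ H h1
  · have := word_eqC cs_ok (l1 := [cH]) (l2 := [c1, c2]) (by decide +kernel)
    simpa using this
  · have := word_eqC cs_ok (l1 := [cH, cH]) (l2 := [c3, c4]) (by decide +kernel)
    simpa using this
  · apply Subtype.ext
    rw [smul_word (cs_ok cH (by simp)) w1 0x1108a7 rfl]
    show _ = Helper33.wordOf 0x3e0052
    congr 1
  · apply Subtype.ext
    rw [smul_word (cs_ok cH (by simp)) w2 0x3e0052 rfl]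
    show _ = Helper33.wordOf 0x1108a7
    congr 1
  · apply Subtype.ext
    rw [smul_word (cs_ok c1 (by simp)) _ _ w12, w12]
    congr 1
  · apply Subtype.ext
    rw [smul_word (cs_ok c2 (by simp)) _ _ w12, w12]
    congr 1
  · apply Subtype.ext
    rw [smul_word (cs_ok c3 (by simp)) w1 0x1108a7 rfl]
    show _ = Helper33.wordOf 0x1108a7
    congr 1
  · apply Subtype.ext
    rw [smul_word (cs_ok c4 (by simp)) w1 0x1108a7 rfl]
    show _ = Helper33.wordOf 0x1108a7
    congr 1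
  · rw [ph_comm BB C11_de]
    show hh (Helper33.wordOf 0x3e0052 * Helper33.wordOf 0x1108a7) = 1
    have : wt (Helper33.wordOf 0x3e0052 * Helper33.wordOf 0x1108a7) = 2 := by decide +kernel
    unfold hh
    rw [this]
    rfl

/-- the statement on the existence of a non split extension -/
theorem exists_nonsplit :
    ∃ (E : Type) (_ : Group E) (_ : Finite E) (N : Subgroup E) (_ : N.Normal)
      (φ : E ⧸ N ≃* ↥Cfsg.Spor.M23) (θ : (Cfsg.GolayPt → ZMod 2) →+ Additive ↥N),
      Function.Surjective θ ∧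
      (∀ w : Cfsg.GolayPt → ZMod 2, θ w = 0 ↔ (w ∈ Cfsg.golayCode ∨ w + Pi.single none 1 ∈ Cfsg.golayCode)) ∧
      (∀ (g : E) (w : Cfsg.GolayPt → ZMod 2),
        ((θ (w ∘ ⇑(((φ (QuotientGroup.mk g) : ↥Cfsg.Spor.M23) : Equiv.Perm Cfsg.GolayPt)⁻¹))).toMul : E)
          = g * ((θ w).toMul : E) * g⁻¹) ∧
      ∀ H : Subgroup E, H ⊓ N = ⊥ → H ⊔ N ≠ ⊤ := by
  refine ⟨EE, inferInstance, inferInstance, (PE.proj : EE →* ↥Spor.M23).ker, inferInstance,
    QuotientGroup.quotientKerEquivOfSurjective _ proj_surj, theta, theta_surj, theta_eq_zero,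
    ?_, EE_not_split⟩
  intro g w
  exact theta_conj g w

end Cfsg.Agent.Lib.Helper9.Parker
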