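import Cfsg.Agent.Lib.Helper9.SchurEA
import Cfsg.Agent.Lib.Helper9.SchurOdd
import Cfsg.Agent.Lib.Helper9.SchurChain
import Cfsg.Agent.Lib.Helper93.J1Simple

set_option autoImplicit false

/-!
The Schur multiplier of the first Janko group is trivial.
-/

namespace Cfsg.Agent.Lib.Helper9.SJ1

open Cfsg Subgroup
open Cfsg.Agent.Lib.Helper93.J1

/-- inverse word -/
def invW (l : List Bool) : List Bool :=
  l.reverse.flatMap fun b => cond b [true, true, true, true] [false, false, false, false, false, false]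

def lu : List Bool := [false, true, false, true, false, true, false, true, false, true]

def lgv : List Bool := [true,true,false,true,false,true,false]
def lgw : List Bool := [true,false,true,false,false,true,false,false,true,false]
def lguv : List Bool := [true,false,true,false,false,false,true,true,false,false]
def lguw : List Bool := [true,false,true,true,false,false,true,false,true,false,true,false]
def lgvw : List Bool := [true,true,true,false,true,true,false,true,false,true,true,false]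
def lguvw : List Bool := [true,false,false,true,true,false,true,true,false,true,false,false]

def vc : ℕ := evalW (lgv ++ lu ++ invW lgv)
def wc : ℕ := evalW (lgw ++ lu ++ invW lgw)

theorem inJ_v : InJ vc := inJ_evalW _
theorem inJ_w : InJ wc := inJ_evalW _

noncomputable def vJ : ↥Cfsg.Spor.J1 := el vc inJ_v
noncomputable def wJ : ↥Cfsg.Spor.J1 := el wc inJ_w

theorem conj_of {g u t : ↥Cfsg.Spor.J1} (h : g * u = t * g) : g * u * g⁻¹ = t := by
  rw [h, mul_inv_cancel_right]

theorem cj_v : el (evalW lgv) (inJ_evalW _) * tJ = vJ * el (evalW lgv) (inJ_evalW _) := by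
  unfold tJ vJ
  rw [el_mul, el_mul]
  exact el_congr _ _ (by decide +kernel)

theorem cj_w : el (evalW lgw) (inJ_evalW _) * tJ = wJ * el (evalW lgw) (inJ_evalW _) := by
  unfold tJ wJ
  rw [el_mul, el_mul]
  exact el_congr _ _ (by decide +kernel)

theorem cj_uv : el (evalW lguv) (inJ_evalW _) * tJ = (tJ * vJ) * el (evalW lguv) (inJ_evalW _) := by
  unfold tJ vJ
  rw [el_mul, el_mul, el_mul]
  exact el_congr _ _ (by decide +kernel)

theorem cj_uw : el (evalW lguw) (inJ_evalW _) * tJ = (tJ * wJ) * el (evalW lguw) (inJ_evalW _) := by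
  unfold tJ wJ
  rw [el_mul, el_mul, el_mul]
  exact el_congr _ _ (by decide +kernel)

theorem cj_vw : el (evalW lgvw) (inJ_evalW _) * tJ = (vJ * wJ) * el (evalW lgvw) (inJ_evalW _) := by
  unfold tJ vJ wJ
  rw [el_mul, el_mul, el_mul]
  exact el_congr _ _ (by decide +kernel)

theorem cj_uvw : el (evalW lguvw) (inJ_evalW _) * tJ =
    (tJ * (vJ * wJ)) * el (evalW lguvw) (inJ_evalW _) := by
  unfold tJ vJ wJ
  rw [el_mul, el_mul, el_mul, el_mul]
  exact el_congr _ _ (by decide +kernel)

theorem tJ_mul_self : tJ * tJ = 1 := by rw [← pow_two]; exact tJ_sq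

theorem ls_u : LS tJ := by
  refine LS.pure tJ vJ wJ tJ_mul_self ?_
  intro t ht
  simp only [List.mem_cons, List.not_mem_nil, or_false] at ht
  rcases ht with rfl | rfl | rfl | rfl | rfl | rfl
  · exact ⟨_, conj_of cj_v⟩
  · exact ⟨_, conj_of cj_w⟩
  · exact ⟨_, conj_of cj_uv⟩
  · exact ⟨_, conj_of cj_uw⟩
  · exact ⟨_, conj_of cj_vw⟩
  · exact ⟨_, conj_of cj_uvw⟩

theorem ls_v : LS vJ := LS.of_conj cj_v ls_u
theorem ls_w : LS wJ := LS.of_conj cj_w ls_u
theorem ls_uv : LS (tJ * vJ) := LS.of_conj cj_uv ls_u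
theorem ls_uw : LS (tJ * wJ) := LS.of_conj cj_uw ls_u
theorem ls_vw : LS (vJ * wJ) := LS.of_conj cj_vw ls_u

theorem vJ_mul_self : vJ * vJ = 1 := by
  unfold vJ
  rw [el_mul]
  exact el_eq_one _ (by decide +kernel)

theorem wJ_mul_self : wJ * wJ = 1 := by
  unfold wJ
  rw [el_mul]
  exact el_eq_one _ (by decide +kernel)

theorem comm_uv : tJ * vJ = vJ * tJ := by
  unfold tJ vJ
  rw [el_mul, el_mul]
  exact el_congr _ _ (by decide +kernel)

theorem comm_uw : tJ * wJ = wJ * tJ := by
  unfold tJ wJ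
  rw [el_mul, el_mul]
  exact el_congr _ _ (by decide +kernel)

theorem comm_vw : vJ * wJ = wJ * vJ := by
  unfold vJ wJ
  rw [el_mul, el_mul]
  exact el_congr _ _ (by decide +kernel)

/-- the Sylow 2-subgroup -/
noncomputable def PJ : Subgroup ↥Cfsg.Spor.J1 := closure ({tJ, vJ, wJ} : Set ↥Cfsg.Spor.J1)

theorem card_PJ_le : Nat.card PJ ≤ 8 := by
  have h := card_chain (⊥ : Subgroup ↥Cfsg.Spor.J1) [tJ, vJ, wJ] (chain_commuting _ _ (by
    intro x hx
    refine ⟨?_, ?_, ?_⟩
    · simp only [List.mem_cons, List.not_mem_nil, or_false] at hx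
      rcases hx with rfl | rfl | rfl
      · exact tJ_mul_self
      · exact vJ_mul_self
      · exact wJ_mul_self
    · intro n hn
      rw [mem_bot] at hn
      subst hn
      simp
    · intro y hy
      simp only [List.mem_cons, List.not_mem_nil, or_false] at hx hy
      rcases hx with rfl | rfl | rfl <;> rcases hy with rfl | rfl | rfl
      · exact Eq.refl _
      · exact comm_uv
      · exact comm_uw
      · exact comm_uv.symm
      · exact Eq.refl _
      · exact comm_vw
      · exact comm_uw.symm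
      · exact comm_vw.symm
      · exact Eq.refl _))
  have e : supL (⊥ : Subgroup ↥Cfsg.Spor.J1) [tJ, vJ, wJ] = PJ := by
    unfold supL PJ
    rw [bot_sup_eq]
    congr 1
    ext y
    simp
  rw [e] at h
  simpa using h

def sel (a : Bool) (c : ℕ) : ℕ := cond a c oneC

theorem inJ_sel (a : Bool) {c : ℕ} (h : InJ c) : InJ (sel a c) := by
  cases a
  · exact inJ_one
  · exact h

def code3 (x : Bool × Bool × Bool) : ℕ := mulC (sel x.1 tc) (mulC (sel x.2.1 vc) (sel x.2.2 wc))

theorem inJ_code3 (x : Bool × Bool × Bool) : InJ (code3 x) :=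
  (inJ_sel _ inJ_t).mul ((inJ_sel _ inJ_v).mul (inJ_sel _ inJ_w))

theorem code3_inj : ∀ x y : Bool × Bool × Bool, code3 x = code3 y → x = y := by decide +kernel

theorem el_sel_mem (a : Bool) {c : ℕ} (h : InJ c) (hm : el c h ∈ PJ) : el (sel a c) (inJ_sel a h) ∈ PJ := by
  cases a
  · have : el (sel false c) (inJ_sel false h) = 1 := el_eq_one _ rfl
    rw [this]; exact one_mem _
  · exact hm

theorem el_code3_mem (x : Bool × Bool × Bool) : el (code3 x) (inJ_code3 x) ∈ PJ := by
  have h : el (code3 x) (inJ_code3 x) = el (sel x.1 tc) (inJ_sel _ inJ_t) *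
      (el (sel x.2.1 vc) (inJ_sel _ inJ_v) * el (sel x.2.2 wc) (inJ_sel _ inJ_w)) := by
    rw [el_mul, el_mul]; rfl
  rw [h]
  refine mul_mem (el_sel_mem _ inJ_t ?_) (mul_mem (el_sel_mem _ inJ_v ?_) (el_sel_mem _ inJ_w ?_))
  · exact subset_closure (by left; rfl)
  · exact subset_closure (by right; left; rfl)
  · exact subset_closure (by right; right; rfl)

theorem card_PJ_ge : 8 ≤ Nat.card PJ := by
  have hinj : Function.Injective
      (fun x : Bool × Bool × Bool => (⟨el (code3 x) (inJ_code3 x), el_code3_mem x⟩ : PJ)) := by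
    intro x y hxy
    have h1 : el (code3 x) (inJ_code3 x) = el (code3 y) (inJ_code3 y) := congrArg Subtype.val hxy
    have h2 : toM (code3 x) = toM (code3 y) := by
      rw [← el_val _ (inJ_code3 x), ← el_val _ (inJ_code3 y), h1]
    exact code3_inj x y (eq_of_toM_eq (canon_mulC _ _) (canon_mulC _ _) h2)
  have := Nat.card_le_card_of_injective _ hinj
  simpa using this

theorem card_PJ : Nat.card PJ = 8 := le_antisymm card_PJ_le card_PJ_ge

theorem index_PJ : PJ.index = 21945 := by
  have h := PJ.card_mul_index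
  rw [card_PJ, card_J1] at h
  omega

theorem j1_two (Γ : Type) [Group Γ] [Finite Γ] (σ : Γ →* ↥Spor.J1)
    (hσ : IsStemExtension σ) (h2 : ∀ z, σ z = 1 → z * z = 1) : ∀ z, σ z = 1 → z = 1 :=
  EA3_main σ hσ h2 tJ vJ wJ ls_u ls_v ls_w ls_uv ls_uw ls_vw 21945 (by decide) index_PJ

theorem index_zpowers (x : ↥Spor.J1) (n m : ℕ) (hx : orderOf x = n) (hnm : n * m = 175560)
    (hn : 0 < n) : (zpowers x).index = m := by
  have h := (zpowers x).card_mul_index
  rw [Nat.card_zpowers, hx, card_J1, ← hnm] at h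
  exact Nat.eq_of_mul_eq_mul_left hn h

theorem j1_odd (Γ : Type) [Group Γ] [Finite Γ] (σ : Γ →* ↥Spor.J1)
    (hσ : IsStemExtension σ) : ∀ z ∈ σ.ker, z ^ (2 ^ 3) = 1 := by
  intro z hz
  obtain ⟨g7, e7⟩ := ex7
  obtain ⟨g11, e11⟩ := ex11
  obtain ⟨g19, e19⟩ := ex19
  obtain ⟨g15, e15⟩ := ex15
  have h7 := pow_index_cyclic σ hσ g7 z hz
  have h11 := pow_index_cyclic σ hσ g11 z hz
  have h19 := pow_index_cyclic σ hσ g19 z hz
  have h15 := pow_index_cyclic σ hσ g15 z hz
  rw [index_zpowers g7 7 25080 e7 (by norm_num) (by norm_num)] at h7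
  rw [index_zpowers g11 11 15960 e11 (by norm_num) (by norm_num)] at h11
  rw [index_zpowers g19 19 9240 e19 (by norm_num) (by norm_num)] at h19
  rw [index_zpowers g15 15 11704 e15 (by norm_num) (by norm_num)] at h15
  have h := pow_gcd_eq_one.2 ⟨pow_gcd_eq_one.2 ⟨pow_gcd_eq_one.2 ⟨h7, h11⟩, h19⟩, h15⟩
  have hg : (Nat.gcd (Nat.gcd (Nat.gcd 25080 15960) 9240) 11704) = 2 ^ 3 := by norm_num
  rwa [hg] at h

theorem j1_stem_trivial (Γ : Type) [Group Γ] [Finite Γ] (σ : Γ →* ↥Spor.J1)
    (hσ : IsStemExtension σ) : ∀ z ∈ σ.ker, z = 1 :=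
  eq_one_of_sqrt σ.ker
    (exists_sqrt_of_exp2 (fun Γ' _ _ σ' hσ' h2 z hz => j1_two Γ' σ' hσ' h2 z hz) Γ σ hσ) 3
    (j1_odd Γ σ hσ)

end Cfsg.Agent.Lib.Helper9.SJ1
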