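import Cfsg.Agent.Lib.Helper9.SchurGroups

set_option autoImplicit false

/-! Data for the Schur multiplier of `M11`. -/

namespace Cfsg.Agent.Lib.Helper9

open Cfsg Cfsg.Agent.Lib.Helper33 Subgroup

def m11C : List ℕ := [0x2d0eab11c95dd90abe469b62810c20, 0x8da6fac2f2a390c59ccd524a410c20, 0x5de8e29a329d503b29a93c1ec20820, 0x5deb478d4c2ba49b1e068926868820, 0x2be955ca26b39a49a9093c2ec18440, 0xbaaa57c16d750d23c449b326820c20, 0x29eb75a5f27510d544309b2c620c40]
def m11sdPs : ℕ := 0x74d763a4ac544cd7d204aa2f210c202d5475b1c6b5c88a4da97ca3010c2089df3ac2eda150655992591c91882075576518ac3dd28a3e449b630188202ccea5b1c9b448d7d506a42f218820bae957b6289ba44b1cd0524ac18820baa959ca28795a93d990591c610c208adf3a22edaba04b2932398ac10c20b9eb47b6309964652c88b31c910c2073ecb518a43c5329d50ca42ed10c20752cb3a4a455cd0acdac7ca28188202bd47b11c65c5929d209aa2ed188208aa6fa22f2a96093ac8db31c618820bdab49ca307b9ac5a928398a4188208da6fac2f2a390c59ccd524a410c202d0eab11c95dd90abe469b62810c20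
def m11sdOa : ℕ := 0x1000001000000000000000001000000001000000000000
def m11sdOb : ℕ := 0xc00a009008007006005004003003001000000000000000
def m11sdFl : ℕ := 0x111
def m11thPs : ℕ := 0x5ddd59a4e87d186b4483534b280820bda8e7a0ed2d4925c46c5267030820bd9d52b1449d20859cd288ded48820b2eb42b4e99b870bc584521e690820b2e8e991437d4cdb9e508b0a940820b2dd57c2262d124ba90d3ca6360820bdab49ca307b9ac5a928398a4188205deb478d4c2ba49b1e0689268688205de8e29a329d503b29a93c1ec20820
def m11thOa : ℕ := 0x1001001001001000000000000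
def m11thOb : ℕ := 0x6004003001000000000000000
def m11thFl : ℕ := 0x111
def m11_x : ℕ := 0x2d0eab11c95dd90abe469b62810c20
def m11_y : ℕ := 0x8da6fac2f2a390c59ccd524a410c20
def m11_a : ℕ := 0x5de8e29a329d503b29a93c1ec20820
def m11_b : ℕ := 0x5deb478d4c2ba49b1e068926868820
def m11_t : ℕ := 0x2be955ca26b39a49a9093c2ec18440
def m11_c5 : ℕ := 0xbaaa57c16d750d23c449b326820c20
def m11_c11 : ℕ := 0x29eb75a5f27510d544309b2c620c40

theorem m11C_ok : ∀ A ∈ m11C, OKc Spor.M11 A := okc_of_all okc_M11 (by decide +kernel)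

theorem m11_stem_trivial (Γ : Type) [Group Γ] [Finite Γ] (σ : Γ →* ↥Spor.M11)
    (hσ : IsStemExtension σ) : ∀ z ∈ σ.ker, z = 1 := by
  intro z hz
  have h1 := pow_sd16_code σ hσ m11C_ok m11_x m11_y 495 (by decide +kernel)
    m11sdPs m11sdOa m11sdOb m11sdFl 2 (by decide +kernel) (by decide +kernel) (by decide +kernel)
    (by rw [card_M11]) z hz
  have h2 := pow_ab3_code σ hσ m11C_ok m11_a m11_b m11_t 880 (by decide +kernel)
    m11thPs m11thOa m11thOb m11thFl 2 (by decide +kernel) (by decide +kernel) (by decide +kernel)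
    (by rw [card_M11]) z hz
  have h3 := pow_cyc_code σ hσ m11C_ok m11_c5 5 1584 (by norm_num) (by decide +kernel)
    (by decide +kernel) (by rw [card_M11]) z hz
  have h4 := pow_cyc_code σ hσ m11C_ok m11_c11 11 720 (by norm_num) (by decide +kernel)
    (by decide +kernel) (by rw [card_M11]) z hz
  have h5 := pow_gcd_eq_one.2 ⟨pow_gcd_eq_one.2 ⟨pow_gcd_eq_one.2 ⟨h1, h2⟩, h3⟩, h4⟩
  have h6 : ((Nat.gcd 495 880).gcd 1584).gcd 720 = 1 := by norm_num
  rwa [h6, pow_one] at h5

end Cfsg.Agent.Lib.Helper9
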