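import Cfsg.Agent.Lib.Helper9.SLP

set_option autoImplicit false

namespace Cfsg.Agent.Lib.Helper9

open Cfsg Cfsg.Agent.Lib.Helper33
open scoped Pointwise

/-- Simplicity of a permutation group generated by two elements of prime order `p`. -/
theorem simple_of_two_gens (H : Subgroup (Equiv.Perm GolayPt)) (a b : Equiv.Perm GolayPt)
    (p : ℕ) [hp : Fact p.Prime]
    (hH : H = Subgroup.closure {a, b}) (ha : orderOf a = p) (hb : orderOf b = p)
    (hcard : ¬ p ^ 2 ∣ Nat.card H)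
    (Δ : Set GolayPt) (hΔ : ∀ g ∈ H, ∀ x ∈ Δ, g x ∈ Δ)
    (hfaith : ∀ g ∈ H, (∀ y ∈ Δ, g y = y) → g = 1)
    (h2 : ∀ x ∈ Δ, ∀ y ∈ Δ, ∀ y' ∈ Δ, y ≠ x → y' ≠ x → ∃ g ∈ H, g x = x ∧ g y = y')
    (hne : Δ.Nonempty) (hpΔ : p ∣ Δ.ncard) : IsSimpleGroup H := by
  have haH : a ∈ H := by rw [hH]; exact Subgroup.subset_closure (by simp)
  have hbH : b ∈ H := by rw [hH]; exact Subgroup.subset_closure (by simp)
  have : Nontrivial H := by
    refine ⟨⟨a, haH⟩, 1, fun h => ?_⟩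
    have h1 : a = 1 := congrArg Subtype.val h
    rw [h1, orderOf_one] at ha
    exact hp.out.one_lt.ne ha
  apply isSimpleGroup_of_prime_gen p hcard
  · rw [eq_top_iff]
    intro g _
    have hle : H ≤ (Subgroup.closure {g : H | orderOf g = p}).map H.subtype := by
      conv_lhs => rw [hH]
      rw [Subgroup.closure_le]
      rintro x (rfl | rfl)
      · exact ⟨⟨x, haH⟩, Subgroup.subset_closure (by
          show orderOf (⟨x, haH⟩ : H) = p
          rw [← Subgroup.orderOf_coe]; exact ha), rfl⟩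
      · exact ⟨⟨x, hbH⟩, Subgroup.subset_closure (by
          show orderOf (⟨x, hbH⟩ : H) = p
          rw [← Subgroup.orderOf_coe]; exact hb), rfl⟩
    obtain ⟨g', hg', h⟩ := hle g.2
    have : g' = g := Subtype.ext h
    rwa [this] at hg'
  · intro N hN hNb
    obtain ⟨x, hx⟩ := hne
    have hΔ' : ∀ g : H, ∀ x ∈ Δ, g • x ∈ Δ := fun g x hx => hΔ g.1 g.2 x hx
    have ht := fun y hy => normal_trans_of_ne_bot (G := H) N hΔ'
      (fun g hg => Subtype.ext (hfaith g.1 g.2 hg))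
      (fun x hx y hy y' hy' h1 h2' => by
        obtain ⟨g, hg, h3, h4⟩ := h2 x hx y hy y' hy' h1 h2'
        exact ⟨⟨g, hg⟩, h3, h4⟩) hNb hx y hy
    exact hpΔ.trans (ncard_dvd_card_of_trans N hΔ' hx ht)

/-- Simplicity from simplicity of a point stabilizer. -/
theorem simple_of_fix_simple (H : Subgroup (Equiv.Perm GolayPt)) (b : ℕ)
    (Δ : Set GolayPt) (hb : pt b ∈ Δ) (hΔ : ∀ g ∈ H, ∀ x ∈ Δ, g x ∈ Δ)
    (hfaith : ∀ g ∈ H, (∀ y ∈ Δ, g y = y) → g = 1)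
    (h2 : ∀ x ∈ Δ, ∀ y ∈ Δ, ∀ y' ∈ Δ, y ≠ x → y' ≠ x → ∃ g ∈ H, g x = x ∧ g y = y')
    (h3 : ∀ x ∈ Δ, ∀ y ∈ Δ, ∀ z ∈ Δ, y ≠ x → z ≠ x → z ≠ y →
      ∃ g ∈ H, g x = x ∧ g y = y ∧ g z ≠ z)
    (hs : IsSimpleGroup (fixL H [b]))
    (q : ℕ) (hq : q.Prime) (hq2 : q ≠ 2) (hqΔ : q ∣ Δ.ncard) : IsSimpleGroup H := by
  have hs' : IsSimpleGroup (MulAction.stabilizer H (pt b)) := by
    rw [fixL_cons, fixL_nil] at hs
    exact (stabSubgroupEquiv H (pt b)).isSimpleGroup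
  exact isSimpleGroup_of_stabilizer (G := H) (Δ := Δ) (fun g x hx => hΔ g.1 g.2 x hx)
    (fun g hg => Subtype.ext (hfaith g.1 g.2 hg))
    (fun x hx y hy y' hy' h1 h2' => by
      obtain ⟨g, hg, h3, h4⟩ := h2 x hx y hy y' hy' h1 h2'
      exact ⟨⟨g, hg⟩, h3, h4⟩)
    (fun x hx y hy z hz h1 h2' h3' => by
      obtain ⟨g, hg, h4, h5, h6⟩ := h3 x hx y hy z hz h1 h2' h3'
      exact ⟨⟨g, hg⟩, h4, h5, h6⟩) hb hs' q hq hq2 hqΔ

theorem fixL_fixL (H : Subgroup (Equiv.Perm GolayPt)) (l l' : List ℕ) :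
    fixL (fixL H l) l' = fixL H (l' ++ l) := by
  ext g
  simp only [mem_fixL, List.mem_append]
  constructor
  · rintro ⟨⟨h1, h2⟩, h3⟩
    exact ⟨h1, fun i hi => hi.elim (h3 i) (h2 i)⟩
  · rintro ⟨h1, h2⟩
    exact ⟨⟨h1, fun i hi => h2 i (Or.inr hi)⟩, fun i hi => h2 i (Or.inl hi)⟩

/-- Conjugation by `u` as an isomorphism from a subgroup of `↥M` onto a subgroup of the ambient
permutation group. -/
def conjEquiv {M : Subgroup (Equiv.Perm GolayPt)} (u : Equiv.Perm GolayPt) (hu : u ∈ M)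
    (S : Subgroup M) (T : Subgroup (Equiv.Perm GolayPt)) (hT : T ≤ M)
    (h : ∀ g : M, g ∈ S ↔ u * g * u⁻¹ ∈ T) : S ≃* T where
  toFun g := ⟨u * g.1.1 * u⁻¹, (h g.1).1 g.2⟩
  invFun t := ⟨⟨u⁻¹ * t.1 * u, M.mul_mem (M.mul_mem (M.inv_mem hu) (hT t.2)) hu⟩,
    (h _).2 (by
      have : u * (u⁻¹ * t.1 * u) * u⁻¹ = t.1 := by group
      show u * (u⁻¹ * t.1 * u) * u⁻¹ ∈ T
      rw [this]; exact t.2)⟩
  left_inv g := by
    apply Subtype.ext; apply Subtype.ext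
    show u⁻¹ * (u * g.1.1 * u⁻¹) * u = g.1.1
    group
  right_inv t := by
    apply Subtype.ext
    show u * (u⁻¹ * t.1 * u) * u⁻¹ = t.1
    group
  map_mul' g g' := by
    apply Subtype.ext
    show u * (g.1.1 * g'.1.1) * u⁻¹ = (u * g.1.1 * u⁻¹) * (u * g'.1.1 * u⁻¹)
    group

theorem orderOf_permOf {P : ℕ} (hP : isPerm P = true) (p : ℕ) [hp : Fact p.Prime]
    (h1 : ∀ q : GolayPt, (permFun P)^[p] q = q) (h2 : ∃ q, permFun P q ≠ q) :
    orderOf (permOf P) = p := by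
  have hfun : ⇑(permOf P) = permFun P := funext (fun q => permOf_apply hP q)
  apply orderOf_eq_prime
  · ext q
    rw [Equiv.Perm.coe_pow, hfun, h1 q]
    rfl
  · intro h
    obtain ⟨q, hq⟩ := h2
    apply hq
    rw [← hfun, h]
    rfl

end Cfsg.Agent.Lib.Helper9
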